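import Mathlib
import Cfsg.Agent.Characters.Clifford
import Cfsg.Agent.Blocks.Over
import Cfsg.Agent.CharactersDeep.NormalInd
import Cfsg.Agent.OddOrderCharacters.OutsideCentral
import Cfsg.Agent.H117.O1.AltDeg
import Cfsg.Agent.S0193
import Cfsg.Agent.H650.LinAct
import Cfsg.Agent.HZ.L.SL.Defs_m3
import Cfsg.Agent.SB.SporF.RowCo3
import Cfsg.Agent.BH.PB_m3
import Cfsg.Agent.Solvable.UniqueOrderP
import Cfsg.Agent.FastGrp
import Cfsg.Agent.Prune
set_option linter.all false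

section
prune_inst 0x7ffcbcfbefe88ddfffff7e3ffed9dffe1084cfffefdff94bffece19fafdf23020fe5fb8d8de012ff1ef6e29410b87813fb7eefffe86fdc7ffffd5ff41ffbee0fa5ef350851948c340fbc2fff93f07f8a6f3fffffffffffffffffffffffffffbefffdfbfeffff

-- part: BH/V4/Act
section
prune_inst 0x343041017700000000040012000000b5210001000020000010a60502090f5300804221004e800c001042a2000804000000000070000000000a0004000005052108a8120431100004040006803007190c00000000000000000000000000041000204010000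
set_option linter.all false
open scoped Cfsg.Agent.FastGrp

/-!
# BH (S4524), box V4: an action with four classes (helper97)
-/

set_option autoImplicit false
set_option linter.unusedSectionVars false

namespace Cfsg.Agent.BH.V4

open MulAction Subgroup
open scoped commutatorElement

theorem p3a : ∀ (σ : Equiv.Perm (Fin 3)) (i : Fin 3), σ i = i → σ ^ 2 = 1 := by decide +kernel

theorem p3b : ∀ (σ τ : Equiv.Perm (Fin 3)) (i : Fin 3), τ ≠ 1 → τ i = i → σ i ≠ i → ⁅σ, τ⁆ ≠ 1 ∧ ⁅σ, τ⁆ ^ 3 = 1 := by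
  decide +kernel

variable {A L X : Type} [Group A] [MulAction A X]

/-- an orbit of length three -/
theorem three {x : X} (h : (orbit A x).ncard = 3) {α : A} {k : ℕ} (hα : α ^ 2 ^ k = 1) (hx : α • x ≠ x) :
    ∃ W : Subgroup A, (∀ a, (∀ y : X, a • y = y) → a ∈ W) ∧ (∃ a b : A, ∀ m : ℕ, ⁅a, b⁆ ^ m ∈ W → 3 ∣ m) ∧
      ∀ (δ : A) (j : ℕ), δ ^ 3 ^ j = 1 → δ ∉ W → ∀ y ∈ orbit A x, (stabilizer A y).relIndex (zpowers δ) = 3 := by
  have : Finite (orbit A x) := (Set.finite_of_ncard_pos (by rw [h]; norm_num)).to_subtype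
  let e : orbit A x ≃ Fin 3 := Finite.equivFinOfCardEq h
  let φ : A →* Equiv.Perm (Fin 3) := e.permCongrHom.toMonoidHom.comp (toPermHom A (orbit A x))
  have h1 : ∀ (a : A) (o : orbit A x), φ a (e o) = e o ↔ a • (o : X) = o := fun a o => by
    show e (a • e.symm (e o)) = e o ↔ _
    rw [e.symm_apply_apply, e.apply_eq_iff_eq, Subtype.ext_iff]
    rfl
  have : Fact (Nat.Prime 3) := ⟨Nat.prime_three⟩
  refine ⟨φ.ker, fun a ha => Equiv.ext fun i => ?_, ?_, fun δ j hj hδ y hy => ?_⟩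
  · obtain ⟨o, rfl⟩ := e.surjective i
    exact (h1 a o).2 (ha o)
  · obtain ⟨i, hi⟩ := Equiv.Perm.exists_fixed_point_of_prime (p := 2) (n := k) (σ := φ α) (by simp)
      (by rw [← map_pow, hα, map_one])
    obtain ⟨⟨_, c, rfl⟩, rfl⟩ := e.surjective i
    obtain ⟨h2, h3⟩ := p3b (φ (c * α * c⁻¹)) (φ α) _
      (fun h2 => hx ((h1 α ⟨x, mem_orbit_self x⟩).1 (by rw [h2]; rfl))) hi fun h2 => hx (by simpa [mul_smul] using (h1 _ _).1 h2)
    refine ⟨c * α * c⁻¹, α, fun m hm => ?_⟩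
    rw [MonoidHom.mem_ker, map_pow, map_commutatorElement] at hm
    rw [← orderOf_eq_prime h3 h2]
    exact orderOf_dvd_of_pow_eq_one hm
  · have h2 : (stabilizer A y).relIndex ⊤ = 3 := by
      rw [relIndex_top_right, index_stabilizer, orbit_eq_iff.2 hy, h]
    have h3 := relIndex_le_of_le_right (H := stabilizer A y) (K := zpowers δ) le_top (by rw [h2]; norm_num)
    obtain ⟨i, -, h4⟩ := (Nat.dvd_prime_pow Nat.prime_three).1 ((relIndex_dvd_card (stabilizer A y) (zpowers δ)).trans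
      ((Nat.card_zpowers δ).symm ▸ orderOf_dvd_of_pow_eq_one hj))
    rw [h2, h4] at h3
    have h5 : i ≤ 1 := (Nat.pow_le_pow_iff_right (by norm_num : 1 < 3)).1 h3
    interval_cases i
    · have h6 := p3a (φ δ) _ ((h1 δ ⟨y, hy⟩).2 (relIndex_eq_one.1 h4 (mem_zpowers δ)))
      have h7 := pow_gcd_eq_one.2 ⟨h6, show φ δ ^ 3 ^ j = 1 by rw [← map_pow, hj, map_one]⟩
      rw [Nat.Coprime.gcd_eq_one (Nat.Coprime.pow_right j (by norm_num)), pow_one] at h7
      exact absurd h7 hδ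
    · exact h4

variable [Group L] [Fintype L] [Fintype X] [MulAction L X]

/-- an orbit of odd length meets every class at most once -/
theorem once (cm : ∀ (a : A) (l : L) (x : X), a • l • x = l • a • x) (hL : IsPGroup 2 L)
    (fr : ∀ (l : L) (x : X), l • x = x → l = 1) {x : X} (od : ¬ 2 ∣ (stabilizer A x).index) {a : A} {l : L}
    (h : l • x = a • x) : l = 1 := by
  classical
  let f : orbit A x → orbit A x := fun o => ⟨l • o.1, by
    obtain ⟨_, c, rfl⟩ := o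
    exact ⟨c * a, by simp only [mul_smul, ← h, cm]⟩⟩
  have hf : Function.Injective f := fun o o' h1 => Subtype.ext (MulAction.injective l (congrArg Subtype.val h1))
  let φ : Equiv.Perm (orbit A x) := Equiv.ofBijective f (Finite.injective_iff_bijective.1 hf)
  have h1 : ∀ (n : ℕ) (o : orbit A x), ((φ ^ n) o).1 = l ^ n • o.1 := fun n => by
    induction n with
    | zero => intro o; simp only [_root_.pow_zero, _root_.Equiv.Perm.coe_one, _root_.id_eq, _root_.one_smul]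
    | succ n ih => intro o; rw [pow_succ, Equiv.Perm.mul_apply, ih, pow_succ, mul_smul]; rfl
  obtain ⟨k, hk⟩ := hL l
  obtain ⟨o, ho⟩ := Equiv.Perm.exists_fixed_point_of_prime (p := 2) (n := k) (σ := φ)
    (by rwa [← Nat.card_eq_fintype_card, Nat.card_coe_set_eq, ← index_stabilizer])
    (Equiv.ext fun o => Subtype.ext (by rw [h1, hk, one_smul]; rfl))
  exact fr l o.1 (congrArg Subtype.val ho)

open Classical in
variable (L) in
/-- the union of the classes of the members of `S` -/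
noncomputable def sat (S : Finset X) : Finset X := (Finset.univ ×ˢ S).image fun q : L × X => q.1 • q.2

theorem mem_sat {S : Finset X} {y : X} : y ∈ sat L S ↔ ∃ l : L, ∃ s ∈ S, l • s = y := by
  simp only [sat, _root_.Finset.mem_image, _root_.Finset.mem_product, _root_.Finset.mem_univ, _root_.true_and, _root_.Prod.exists]

theorem card_sat {S : Finset X} (h : ∀ s ∈ S, ∀ s' ∈ S, ∀ l : L, l • s = s' → l = 1) :
    (sat L S).card = Fintype.card L * S.card := by
  classical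
  rw [← Finset.card_univ, ← Finset.card_product, sat]
  refine Finset.card_image_of_injOn fun q hq q' hq' h1 => ?_
  have h2 : (q'.1⁻¹ * q.1) • q.2 = q'.2 := by rw [mul_smul, show q.1 • q.2 = q'.1 • q'.2 from h1, inv_smul_smul]
  have h3 := h _ (Finset.mem_product.1 hq).2 _ (Finset.mem_product.1 hq').2 _ h2
  rw [h3, one_smul] at h2
  exact Prod.ext (inv_mul_eq_one.1 h3).symm h2

theorem four (cm : ∀ (a : A) (l : L) (x : X), a • l • x = l • a • x) (hL : IsPGroup 2 L)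
    (fr : ∀ (l : L) (x : X), l • x = x → l = 1) (od : ∀ x : X, ¬ 2 ∣ (stabilizer A x).index) {d : X → ℕ} {z : X → ℤ}
    (d0 : ∀ x, 0 < d x) (z0 : ∀ x, z x ≠ 0) (dA : ∀ (a : A) x, d (a • x) = d x ∧ z (a • x) = z x)
    (dL : ∀ (l : L) x, d (l • x) = d x ∧ z (l • x) = z x) (s1 : ∑ x, z x ^ 2 = 4 * Fintype.card L)
    (s2 : ∑ x, d x * z x = 0) {α : A} {k : ℕ} (hα : α ^ 2 ^ k = 1)
    (hf : {x : X | α • x = x}.ncard < 4 * Fintype.card L) :
    ∃ W : Subgroup A, (∀ a, (∀ y : X, a • y = y) → a ∈ W) ∧ (∃ a b : A, ∀ m : ℕ, ⁅a, b⁆ ^ m ∈ W → 3 ∣ m) ∧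
      ∀ (δ : A) (j : ℕ), δ ^ 3 ^ j = 1 → δ ∉ W → (∃ x : X, δ • x = x) ∧
        ∃ c : ℕ, ∀ x : X, (stabilizer A x).relIndex (zpowers δ) * d x = c := by
  classical
  have n0 : (0 : ℤ) < Fintype.card L := by exact_mod_cast Fintype.card_pos
  have c1 : ∀ x : X, (sat L {x}).card = Fintype.card L := fun x => by
    rw [card_sat fun s hs s' hs' l h => fr l s (by rwa [Finset.mem_singleton.1 hs', ← Finset.mem_singleton.1 hs] at h),
      Finset.card_singleton, mul_one]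
  have c2 : ∀ (x : X) (F : ℕ → ℤ → ℤ), ∑ y ∈ sat L {x}, F (d y) (z y) = Fintype.card L * F (d x) (z x) := fun x F => by
    rw [Finset.sum_congr rfl (g := fun _ => F (d x) (z x)) fun y hy => ?_, Finset.sum_const, c1, nsmul_eq_mul]
    obtain ⟨l, s, hs, rfl⟩ := mem_sat.1 hy
    rw [Finset.mem_singleton.1 hs, (dL l x).1, (dL l x).2]
  have z1 : ∀ x, z x = 1 ∨ z x = -1 := fun x => by
    by_contra h
    have h1 : 4 ≤ z x ^ 2 := by
      have := z0 x
      rcases (by omega : 2 ≤ z x ∨ z x ≤ -2) with h2 | h2 <;> nlinarith only [h2]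
    have h2 : sat L {x} = Finset.univ := by
      by_contra h2
      obtain ⟨y, hy⟩ : ∃ y, y ∉ sat L {x} := not_forall.1 fun h3 => h2 (Finset.eq_univ_of_forall h3)
      have h3 := Finset.sum_lt_sum_of_subset (f := fun y => z y ^ 2) (Finset.subset_univ _) (Finset.mem_univ y) hy
        (pow_pos (abs_pos.2 (z0 y)) 2 |>.trans_eq (sq_abs _)) fun _ _ _ => sq_nonneg _
      rw [c2 x fun _ b => b ^ 2, s1] at h3
      nlinarith only [h1, h3]
    rw [← h2, c2 x fun a b => a * b, mul_eq_zero, mul_eq_zero] at s2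
    have := d0 x
    have := z0 x
    omega
  have c3 : Fintype.card X = 4 * Fintype.card L := by
    rw [Finset.sum_congr rfl (g := fun _ => 1) fun x _ => by rcases z1 x with h | h <;> simp only [h, _root_.one_pow, _root_.Int.reduceNeg, _root_.even_two, _root_.Even.neg_pow], Finset.sum_const,
      Finset.card_univ, nsmul_eq_mul, mul_one] at s1
    exact_mod_cast s1
  obtain ⟨x, hx⟩ : ∃ x : X, α • x ≠ x := by
    by_contra h
    push Not at h
    rw [show {x : X | α • x = x} = Set.univ from Set.eq_univ_of_forall h, Set.ncard_univ, Nat.card_eq_fintype_card, c3] at hf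
    exact lt_irrefl _ hf
  set O := (orbit A x).toFinset with hO
  have c4 : (sat L O).card = Fintype.card L * O.card := card_sat fun s hs s' hs' l h => by
    obtain ⟨c, rfl⟩ := Set.mem_toFinset.1 hs
    obtain ⟨c', rfl⟩ := Set.mem_toFinset.1 hs'
    exact once cm hL fr (od (c • x)) (a := c' * c⁻¹) (by simpa only [mul_smul, _root_.inv_smul_smul] using h)
  have c5 : O.card = 3 := by
    have h1 := od x
    rw [index_stabilizer, Set.ncard_eq_toFinset_card', ← hO] at h1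
    have h2 : 1 < O.card := Finset.one_lt_card.2 ⟨_, Set.mem_toFinset.2 (mem_orbit x α), _,
      Set.mem_toFinset.2 (mem_orbit_self x), hx⟩
    have h3 : O.card ≤ 4 := Nat.le_of_mul_le_mul_left (by
      rw [← c4, mul_comm, ← c3]
      exact Finset.card_le_univ _) (Fintype.card_pos (α := L))
    omega
  have c6 : (sat L O)ᶜ.card = Fintype.card L := by
    rw [Finset.card_compl, c4, c5, c3]
    omega
  obtain ⟨x₀, h0⟩ := Finset.card_pos.1 (c6 ▸ Fintype.card_pos (α := L))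
  have c7 : sat L {x₀} = (sat L O)ᶜ := Finset.eq_of_subset_of_card_le (fun y hy => Finset.mem_compl.2 fun h => by
    obtain ⟨l, s, hs, rfl⟩ := mem_sat.1 hy
    obtain ⟨l', s', hs', h1⟩ := mem_sat.1 h
    exact Finset.mem_compl.1 h0 (mem_sat.2 ⟨l⁻¹ * l', s', hs', by
      rw [mul_smul, h1, inv_smul_smul, Finset.mem_singleton.1 hs]⟩)) (by rw [c6, c1])
  have c8 : ∀ a : A, a • x₀ = x₀ := fun a => by
    obtain ⟨l, s, hs, h1⟩ := mem_sat.1 (c7.ge (Finset.mem_compl.2 fun h => by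
      obtain ⟨l', s', hs', h1⟩ := mem_sat.1 h
      obtain ⟨c, rfl⟩ := Set.mem_toFinset.1 hs'
      exact Finset.mem_compl.1 h0 (mem_sat.2 ⟨l', _, Set.mem_toFinset.2 (mem_orbit x (a⁻¹ * c)), by
        rw [mul_smul, ← cm, h1, inv_smul_smul]⟩)) : a • x₀ ∈ _)
    rw [Finset.mem_singleton.1 hs] at h1
    rw [← h1, once cm hL fr (od _) h1, one_smul]
  have c9 : ∀ y ∈ sat L O, d y = d x ∧ z y = z x := fun y hy => by
    obtain ⟨l, s, hs, rfl⟩ := mem_sat.1 hy
    obtain ⟨c, rfl⟩ := Set.mem_toFinset.1 hs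
    exact ⟨(dL l _).1.trans (dA c x).1, (dL l _).2.trans (dA c x).2⟩
  have c10 : d x₀ = 3 * d x := by
    rw [← Finset.sum_add_sum_compl (sat L O), ← c7, c2 x₀ fun a b => a * b, Finset.sum_congr rfl
      (g := fun _ => d x * z x) fun y hy => by rw [(c9 y hy).1, (c9 y hy).2], Finset.sum_const, c4, c5, nsmul_eq_mul,
      Nat.cast_mul, mul_assoc, ← mul_add, mul_eq_zero, or_iff_right n0.ne'] at s2
    have := d0 x
    have := d0 x₀
    rcases z1 x with h | h <;> rcases z1 x₀ with h' | h' <;> rw [h, h'] at s2 <;> omega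
  have st : ∀ (l : L) (y : X), stabilizer A (l • y) = stabilizer A y := fun l y => Subgroup.ext fun a => by
    rw [mem_stabilizer_iff, mem_stabilizer_iff, cm, smul_left_cancel_iff]
  obtain ⟨W, w1, w2, w3⟩ := three (by rw [Set.ncard_eq_toFinset_card', c5]) hα hx
  refine ⟨W, w1, w2, fun δ j hj hδ => ⟨⟨x₀, c8 δ⟩, 3 * d x, fun y => ?_⟩⟩
  by_cases hy : y ∈ sat L O
  · rw [(c9 y hy).1]
    obtain ⟨l, s, hs, rfl⟩ := mem_sat.1 hy
    rw [st, w3 δ j hj hδ s (Set.mem_toFinset.1 hs)]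
  · obtain ⟨l, s, hs, rfl⟩ := mem_sat.1 (c7.ge (Finset.mem_compl.2 hy))
    rw [Finset.mem_singleton.1 hs, st, (dL l x₀).1, relIndex_eq_one.2 fun a _ => c8 a, one_mul, c10]

end Cfsg.Agent.BH.V4

private theorem dce_c4687fd49205 : _root_.True := by
  try have : _root_.True := by simp only [_root_.Cfsg.Agent.BH.V4.sat.eq_1]
  exact _root_.True.intro
end

-- part: BH/Row2L/LamA
section
set_option linter.all false
open scoped Cfsg.Agent.FastGrp

/-!
# BH / Row2L: an irreducible character which vanishes off a normal subgroup (helper61)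

* `LamA.ind_eq` : the induced constituent is a multiple of the character;
* `LamA.clif` : the same inside an arbitrary group.
-/

set_option autoImplicit false
set_option linter.unusedSectionVars false

namespace Cfsg.Agent.BH.R2.LamA

open Cfsg Subgroup Cfsg.Agent.Characters Cfsg.Agent.Characters.Core Cfsg.Agent.CharactersDeep
open scoped ComplexConjugate

/-- the induced constituent -/
theorem ind_eq {J : Type} [Group J] [Fintype J] (N : Subgroup J) [N.Normal] [Fintype N] {f : J → ℂ}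
    (hf : IsIrrCharacter J f) (h0 : ∀ g, g ∉ N → f g = 0) {lam : N → ℂ} (hl : IsIrrCharacter N lam)
    (ho : classInner (fun n : N => f n) lam ≠ 0) : ∃ e : ℕ, e ≠ 0 ∧ indFun N lam = (e : ℂ) • f := by
  classical
  obtain ⟨e, he⟩ := classInner_isNat (isIrr_isCharacter hl) (Clifford.isCharacter_restrict N (isIrr_isCharacter hf))
  have he0 : e ≠ 0 := fun h => ho (by rw [← classInner_conj_symm, he, h, Nat.cast_zero, map_zero])
  refine ⟨e, he0, classFunction_ext (NormalInd.indFun_isClassFunction N lam)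
    (fun g h => by rw [Pi.smul_apply, Pi.smul_apply, isIrr_isClassFunction hf g h]) fun χ hχ => ?_⟩
  rw [NormalInd.classInner_indFun N lam χ (isIrr_isClassFunction hχ), classInner_smul_left]
  by_cases h : f = χ
  · rw [← h, he, classInner_irr_self hf, mul_one]
  rw [classInner_irr_ne hf hχ h, mul_zero]
  by_contra h1
  have h2 : classInner (fun n : N => χ n) lam ≠ 0 := fun h2 => h1 (by rw [← classInner_conj_symm, h2, map_zero])
  have h3 := Blocks.Over.sum_mul_eq_of_over N hχ hl h2 (fun n => conj (f n)) fun g n => by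
    rw [MulAut.conjNormal_apply, isIrr_isClassFunction hf]
  have h4 : ∑ n : N, conj (f n) * χ n = 0 := by
    have h5 := classInner_irr_ne hχ hf (Ne.symm h)
    rw [classInner_def, mul_eq_zero, inv_eq_zero, or_iff_right card_ne_zero_complex,
      ← Finset.sum_filter_add_sum_filter_not Finset.univ (fun g => g ∈ N),
      Finset.sum_eq_zero (s := Finset.univ.filter fun g => ¬ g ∈ N) fun g hg => by
        rw [h0 g (Finset.mem_filter.1 hg).2, map_zero, mul_zero], add_zero,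
      Finset.sum_subtype (p := fun g => g ∈ N) _ (by simp)] at h5
    rw [← h5]
    exact Finset.sum_congr rfl fun n _ => mul_comm _ _
  rw [h4, zero_div, eq_comm, div_eq_zero_iff, or_iff_left (isIrr_apply_one_ne_zero hl)] at h3
  rw [classInner_def, Finset.sum_congr rfl fun n _ => mul_comm (lam n) _, h3, mul_zero] at he
  exact he0 (Nat.cast_eq_zero.1 he.symm)

/-- **Clifford theory** for a character of `J` which vanishes off `L` -/
theorem clif {Y : Type} [Group Y] {J L : Subgroup Y} [Finite J] (hLJ : L ≤ J)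
    (hn : ∀ j ∈ J, ∀ g ∈ L, j * g * j⁻¹ ∈ L) {f : Y → ℂ} (hf : IsIrrCharacter J fun g => f g)
    (h0 : ∀ g, g ∉ L → f g = 0) :
    ∃ (lam : Y → ℂ) (e : ℕ), e ≠ 0 ∧ IsIrrCharacter L (fun g => lam g) ∧ (∀ g, g ∉ L → lam g = 0) ∧
      (∀ g, (e * Nat.card L : ℂ) * f g = ∑ᶠ j : J, lam ((j : Y)⁻¹ * g * j)) ∧
      (∀ j ∈ J, (∀ g, lam (j * g * j⁻¹) = lam g) → j ^ e ^ 2 ∈ L) ∧
      (∀ D ≤ L, (∀ j ∈ J, ∀ d ∈ D, j * d * j⁻¹ ∈ D) → (∀ d ∈ D, f d = f 1) → ∀ d ∈ D, lam d = lam 1) ∧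
      ∀ x : Y, (∀ g, x * g * x⁻¹ ∈ L ↔ g ∈ L) → (∀ g, f (x * g * x⁻¹) = f g) →
        ∃ j ∈ J, ∀ g, lam (j * x * g * (j * x)⁻¹) = lam g := by
  classical
  have := Fintype.ofFinite J
  let N := L.subgroupOf J
  have hN : N.Normal := ⟨fun n h j => hn j j.2 n h⟩
  have := Fintype.ofFinite N
  let q : N ≃* L := subgroupOfEquivOfLe hLJ
  obtain ⟨l, hl, ho⟩ := H117.O1.exists_constituent N hf
  obtain ⟨e, he, hi⟩ := ind_eq N hf (fun g hg => h0 g hg) hl ho
  have hl' : IsIrrCharacter L (l ∘ q.symm) := isIrr_comp q.symm.toMonoidHom q.symm.surjective hl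
  let lam := extendByZero L (l ∘ q.symm)
  have k0 : ∀ g, g ∉ L → lam g = 0 := fun g hg => extendByZero_of_notMem _ _ hg
  have k1 : ∀ n : N, lam (n : J) = l n := fun n => extendByZero_of_mem L (l ∘ q.symm) n.2
  have k2 : ∀ j : J, extendByZero N l j = lam j := fun j => by
    by_cases h : j ∈ N
    · rw [extendByZero_of_mem _ _ h]
      exact (k1 ⟨j, h⟩).symm
    · rw [extendByZero_of_notMem _ _ h, k0 j h]
  have k3 : Nat.card N = Nat.card L := Nat.card_congr q.toEquiv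
  have k4 : ∀ j ∈ J, ∀ g, j * g * j⁻¹ ∈ L ↔ g ∈ L := fun j hj g =>
    ⟨fun h => by simpa [mul_assoc] using hn j⁻¹ (inv_mem hj) _ h, hn j hj g⟩
  refine ⟨lam, e, he, ?_, k0, fun g => ?_, fun j hj h => ?_, fun D hD h1 h2 d hd => ?_, fun x h1 h2 => ?_⟩
  · rwa [show (fun g : L => lam g) = l ∘ q.symm from funext fun g => extendByZero_of_mem L _ g.2]
  · by_cases hg : g ∈ J
    · have h1 := congrFun hi ⟨g, hg⟩
      rw [indFun_apply, inv_mul_eq_iff_eq_mul₀ card_ne_zero_complex, Pi.smul_apply, smul_eq_mul, k3] at h1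
      rw [finsum_eq_sum_of_fintype, mul_comm (e : ℂ), mul_assoc, ← h1]
      exact Finset.sum_congr rfl fun j _ => k2 _
    · rw [h0 g fun h => hg (hLJ h), mul_zero, finsum_congr (g := fun _ => 0) fun j => k0 _ fun h => hg ?_, finsum_zero]
      have h1 := hLJ h
      rwa [mul_mem_cancel_right j.2, mul_mem_cancel_left (inv_mem j.2)] at h1
  · let T : Subgroup J :=
      { carrier := {g | ∀ n : N, l (MulAut.conjNormal g n) = l n}
        one_mem' := fun n => by rw [map_one, MulAut.one_apply]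
        mul_mem' := fun {a b} ha hb n => by rw [map_mul, MulAut.mul_apply, ha, hb]
        inv_mem' := fun {a} ha n => by rw [← ha, map_inv, MulAut.apply_inv_self] }
    have h1 := S0193.result N l hl
    rw [hi, classInner_smul_left, classInner_smul_right, classInner_irr_self hf, mul_one, map_natCast] at h1
    have h2 : Nat.card N * (e * e) = Nat.card T := by exact_mod_cast h1
    have h3 : N ≤ T := fun g hg n => isIrr_isClassFunction hl n ⟨g, hg⟩
    have h4 : N.relIndex T = e ^ 2 := by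
      have h5 := (N.subgroupOf T).card_mul_index
      rw [Nat.card_congr (subgroupOfEquivOfLe h3).toEquiv, ← h2] at h5
      rw [pow_two]
      exact Nat.eq_of_mul_eq_mul_left Nat.card_pos h5
    have h5 : (⟨j, hj⟩ : J) ∈ T := fun n => by
      rw [← k1, ← k1]
      exact h _
    have h6 := N.pow_relIndex_mem h5
    rw [h4] at h6
    exact h6
  · have : (D.subgroupOf J).Normal := ⟨fun n h j => h1 j j.2 n h⟩
    have h3 := OddOrderCharacters.OutsideCentral.ker_of_indFun_ker N (D.subgroupOf J) hl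
      (fun z hz => by rw [hi, Pi.smul_apply, Pi.smul_apply, h2 z hz]; rfl) ⟨⟨d, hLJ (hD hd)⟩, hD hd⟩ hd
    rw [← k1, ← k1] at h3
    exact h3
  · have hx : x ∈ normalizer (L : Set Y) := mem_normalizer_iff.2 fun g => (h1 g).symm
    let φ : N ≃* N := q.trans ((L.normalizerMonoidHom ⟨x⁻¹, inv_mem hx⟩).trans q.symm)
    have h3 : ∀ n : N, (((φ n : N) : J) : Y) = x⁻¹ * (n : J) * x⁻¹⁻¹ := fun _ => rfl
    have h4 : (fun n : N => f (n : J)) ∘ φ = fun n : N => f (n : J) := funext fun n => by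
      rw [Function.comp_apply, h3, ← h2]
      congr 1
      group
    obtain ⟨j, hj⟩ := Clifford.exists_conj_of_constituents N hf hl (isIrr_comp φ.toMonoidHom φ.surjective hl) ho (by
      rw [← h4]
      exact (Clifford.classInner_comp_mulEquiv φ _ _).trans_ne ho)
    refine ⟨j, j.2, fun g => ?_⟩
    by_cases hg : g ∈ L
    · have h5 := congrFun hj ⟨⟨_, hLJ ((h1 g).2 hg)⟩, (h1 g).2 hg⟩
      rw [Function.comp_apply, Function.comp_apply, ← k1, ← k1] at h5
      refine Eq.trans ?_ (h5.symm.trans ?_)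
      · congr 1
        show _ = j * (x * g * x⁻¹) * (j : Y)⁻¹
        group
      · congr 1
        show x⁻¹ * (x * g * x⁻¹) * x⁻¹⁻¹ = g
        group
    · rw [k0 g hg, k0 _ fun h => hg ((h1 g).1 ((k4 j j.2 _).1 ?_))]
      rwa [show j * (x * g * x⁻¹) * (j : Y)⁻¹ = j * x * g * (j * x)⁻¹ by group]

end Cfsg.Agent.BH.R2.LamA
end

-- part: BH/V4/Grp
section
prune_inst 0x430400110220000081c001262001ec693000102002b400111e604000c869f0120442720f4d00a1091c2aae4407a404811000079021000000a000e004119008008ab72c6b33cad0434000680f807590c00000000000000000000000000041000004010000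
set_option linter.all false
open scoped Cfsg.Agent.FastGrp

/-!
# BH (S4524), box V4: a group of odd order which centralizes a subgroup of index at most four (helper97)
-/

set_option autoImplicit false
set_option linter.unusedSectionVars false

namespace Cfsg.Agent.BH.V4

open Cfsg.Agent.H650

/-- `γ` normalises `E` and fixes its fixed points -/
def Nz {Q : Type} [Group Q] (E : Subgroup (MulAut Q)) (γ : MulAut Q) : Prop :=
  (∀ e ∈ E, γ * e * γ⁻¹ ∈ E) ∧ ∀ z, (∀ e ∈ E, e z = z) → γ z = z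

theorem Nz.of_mem {Q : Type} [Group Q] {E : Subgroup (MulAut Q)} {e : MulAut Q} (he : e ∈ E) : Nz E e :=
  ⟨fun _ hf => mul_mem (mul_mem he hf) (inv_mem he), fun _ hz => hz e he⟩

section comm

variable {Q : Type} [CommGroup Q] [Finite Q] {E : Subgroup (MulAut Q)}

theorem odd_fix (hE : ¬ 2 ∣ Nat.card E) {e : MulAut Q} (he : e ∈ E) {x : Q} (h : e (e x) = x) : e x = x := by
  obtain ⟨k, hk⟩ := Nat.odd_iff.2 (Nat.two_dvd_ne_zero.1 hE)
  have h1 : ∀ n : ℕ, (e ^ (2 * n)) x = x := fun n => by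
    induction n with
    | zero => rfl
    | succ n ih => rw [mul_add, mul_one, pow_add, pow_two, MulAut.mul_apply, MulAut.mul_apply, h, ih]
  have h2 : (⟨e, he⟩ : E) ^ (2 * k + 1) = 1 := hk ▸ pow_card_eq_one'
  have h3 : (e ^ (2 * k + 1)) x = e x := by rw [pow_succ', MulAut.mul_apply, h1]
  rw [← h3, show e ^ (2 * k + 1) = 1 from congrArg Subtype.val h2, MulAut.one_apply]

/-- the norm -/
noncomputable def nm (E : Subgroup (MulAut Q)) [Fintype E] : Q →* Q := ∏ e : E, (e : MulAut Q).toMonoidHom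

theorem nm_apply [Fintype E] (x : Q) : nm E x = ∏ e : E, (e : MulAut Q) x := MonoidHom.finsetProd_apply _ _ _

theorem nm_fix [Fintype E] (x : Q) : ∀ e ∈ E, e (nm E x) = nm E x := fun e he => by
  rw [nm_apply, map_prod]
  exact Fintype.prod_equiv (Equiv.mulLeft ⟨e, he⟩) _ _ fun _ => rfl

theorem nm_nz [Fintype E] {γ : MulAut Q} (h : Nz E γ) (x : Q) : nm E (γ x) = nm E x := by
  rw [← h.2 _ (nm_fix x), nm_apply, nm_apply, map_prod]
  refine (Fintype.prod_bijective (fun e : E => (⟨_, h.1 e e.2⟩ : E)) (Finite.injective_iff_bijective.1 fun e e' h1 =>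
    Subtype.ext (mul_left_cancel (mul_right_cancel (congrArg Subtype.val h1)))) _ _ fun e => ?_).symm
  simp

theorem four_el {V : Subgroup Q} (hV : Nat.card V ≤ 4) {v w : Q} (hv : v ∈ V) (hw : w ∈ V) (v1 : v ≠ 1) (w1 : w ≠ 1)
    (v2 : v * v = 1) (h : w ≠ v) : Nat.card V = 4 ∧ ∀ y ∈ V, y = 1 ∨ y = v ∨ y = w ∨ y = v * w := by
  have h1 : ({1, v, w, v * w} : Set Q).ncard = 4 := Set.ncard_eq_four.2 ⟨_, _, _, _, v1.symm, w1.symm,
    fun e => h (mul_left_cancel (e.symm.trans v2.symm)), h.symm, fun e => w1 (left_eq_mul.1 e),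
    fun e => v1 (right_eq_mul.1 e), rfl⟩
  have h2 : ({1, v, w, v * w} : Set Q) = V := Set.eq_of_subset_of_ncard_le (by
    rintro _ (rfl | rfl | rfl | rfl)
    exacts [one_mem V, hv, hw, mul_mem hv hw]) (by rw [h1]; exact hV)
  exact ⟨(congrArg Set.ncard h2).symm.trans h1, fun y hy => h2.ge hy⟩

theorem grp0 (hQ : IsPGroup 2 Q) (hE : ¬ 2 ∣ Nat.card E) {R : Subgroup Q} (hR : R.index ≤ 4)
    (hRE : ∀ e ∈ E, ∀ r ∈ R, e r = r) {α : MulAut Q} (hα : Nz E α) (hne : α ≠ 1) :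
    ∃ (V : Subgroup Q) (v : Q), Nat.card V = 4 ∧ v ∈ V ∧ v ≠ 1 ∧ v * v = 1 ∧ (∀ e ∈ E, e v = v → e = 1) ∧
      (∀ γ, Nz E γ → (∀ x, x⁻¹ * γ x ∈ V) ∧ ∃ e ∈ E, e (γ v) = v) ∧
      ∀ e ∈ E, e * α = α * e → ∀ u, α u = u → e u = u := by
  have := Fintype.ofFinite E
  set V := (nm E).ker with hV
  have a1 : ∀ z, (∀ e ∈ E, e z = z) → nm E z = z ^ Nat.card E := fun z hz => by
    rw [nm_apply, Finset.prod_congr rfl fun (e : E) _ => hz e e.2, Finset.prod_const, Finset.card_univ,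
      Nat.card_eq_fintype_card]
  have a2 : ∀ z : Q, ∃ m : ℕ, (z ^ Nat.card E) ^ m = z := fun z => by
    obtain ⟨k, hk⟩ := IsPGroup.iff_orderOf.1 hQ z
    exact exists_pow_eq_self_of_coprime (hk ▸ ((Nat.prime_two.coprime_iff_not_dvd.2 hE).symm.pow_right k))
  have a3 : ∀ x, ∃ z, (∀ e ∈ E, e z = z) ∧ z⁻¹ * x ∈ V := fun x => by
    obtain ⟨m, hm⟩ := a2 (nm E x)
    have h1 : ∀ e ∈ E, e (nm E x ^ m) = nm E x ^ m := fun e he => by rw [map_pow, nm_fix x e he]
    refine ⟨_, h1, ?_⟩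
    rw [MonoidHom.mem_ker, map_mul, map_inv, a1 _ h1, pow_right_comm, hm, inv_mul_cancel]
  have a4 : ∀ z ∈ V, (∀ e ∈ E, e z = z) → z = 1 := fun z hz h => by
    obtain ⟨m, hm⟩ := a2 z
    rw [← hm, ← a1 z h, show nm E z = 1 from hz, one_pow]
  have a5 : Nat.card V ≤ 4 := le_trans (Nat.card_le_card_of_injective (fun w : V => ((w : Q) : Q ⧸ R)) fun w w' h =>
    Subtype.ext (inv_mul_eq_one.1 (a4 _ (mul_mem (inv_mem w.2) w'.2) fun e he => hRE e he _ (QuotientGroup.eq.1 h)))) hR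
  have a6 : ∀ γ, Nz E γ → ∀ w ∈ V, γ w ∈ V := fun γ h w hw => (nm_nz h w).trans hw
  have a7 : ∀ γ, Nz E γ → (∀ w ∈ V, γ w = w) → γ = 1 := fun γ h h1 => MulEquiv.ext fun x => by
    obtain ⟨z, z1, z2⟩ := a3 x
    have h2 := h1 _ z2
    rwa [map_mul, map_inv, h.2 z z1, mul_right_inj] at h2
  have a8 : 2 ∣ Nat.card V := (hQ.to_subgroup V).card_eq_or_dvd.resolve_left fun h => hne (a7 α hα fun w hw => by
    rw [Subgroup.card_eq_one.1 h, Subgroup.mem_bot] at hw
    rw [hw, map_one])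
  obtain ⟨⟨v, hv⟩, h2⟩ := exists_prime_orderOf_dvd_card' 2 a8
  have v1 : v ≠ 1 := fun h => by
    rw [show (⟨v, hv⟩ : V) = 1 from Subtype.ext h, orderOf_one] at h2
    exact absurd h2 (by norm_num)
  have v2 : v * v = 1 := by
    rw [← pow_two, ← h2]
    exact congrArg Subtype.val (pow_orderOf_eq_one (⟨v, hv⟩ : V))
  obtain ⟨e₀, he₀, h0⟩ : ∃ e ∈ E, e v ≠ v := by
    by_contra h
    push Not at h
    exact v1 (a4 v hv h)
  have n1 : ∀ (γ : MulAut Q) {w : Q}, w ≠ 1 → γ w ≠ 1 := fun γ w hw h => hw ((map_eq_one_iff _ γ.injective).1 h)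
  have w0 := a6 e₀ (Nz.of_mem he₀) v hv
  obtain ⟨c4, b1⟩ := four_el a5 hv w0 v1 (n1 e₀ v1) v2 h0
  have w2 : e₀ v * e₀ v = 1 := by rw [← map_mul, v2, map_one]
  have b2 : e₀ (e₀ v) = v * e₀ v := by
    rcases b1 _ (a6 e₀ (Nz.of_mem he₀) _ w0) with h | h | h | h
    · exact absurd h (n1 e₀ (n1 e₀ v1))
    · exact absurd (odd_fix hE he₀ h) h0
    · exact absurd (e₀.injective h) h0
    · exact h
  refine ⟨V, v, c4, hv, v1, v2, fun e he h => a7 e (Nz.of_mem he) ?_, fun γ h => ⟨fun x => ?_, ?_⟩,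
    fun e he hc u hu => ?_⟩
  · have h1 : e (e₀ v) = e₀ v := by
      rcases b1 _ (a6 e (Nz.of_mem he) _ w0) with h1 | h1 | h1 | h1
      · exact absurd h1 (n1 e (n1 e₀ v1))
      · exact absurd (e.injective (h1.trans h.symm)) h0
      · exact h1
      · exact odd_fix hE he (by rw [h1, map_mul, h, h1, ← mul_assoc, v2, one_mul])
    intro w hw
    rcases b1 w hw with rfl | rfl | rfl | rfl
    exacts [map_one e, h, h1, by rw [map_mul, h, h1]]
  · rw [MonoidHom.mem_ker, map_mul, map_inv, nm_nz h, inv_mul_cancel]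
  · rcases b1 _ (a6 γ h v hv) with h1 | h1 | h1 | h1
    · exact absurd h1 (n1 γ v1)
    · exact ⟨1, one_mem E, h1⟩
    · exact ⟨e₀⁻¹, inv_mem he₀, by rw [h1, MulAut.inv_apply_self]⟩
    · exact ⟨e₀⁻¹ * e₀⁻¹, mul_mem (inv_mem he₀) (inv_mem he₀), by
        rw [h1, ← b2, MulAut.mul_apply, MulAut.inv_apply_self, MulAut.inv_apply_self]⟩
  · obtain ⟨z, z1, z2⟩ := a3 u
    have h1 : α (z⁻¹ * u) = z⁻¹ * u := by rw [map_mul, map_inv, hα.2 z z1, hu]
    suffices h : e (z⁻¹ * u) = z⁻¹ * u by rwa [map_mul, map_inv, z1 e he, mul_right_inj] at h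
    generalize z⁻¹ * u = w at z2 h1
    by_contra h3
    have h4 : w ≠ 1 := fun h => h3 (by rw [h, map_one])
    have h5 : w * w = 1 := by
      rcases b1 w z2 with rfl | rfl | rfl | rfl
      exacts [mul_one 1, v2, w2, by rw [mul_mul_mul_comm, v2, w2, mul_one]]
    have h6 : α (e w) = e w := by rw [← MulAut.mul_apply, ← hc, MulAut.mul_apply, h1]
    refine hne (a7 α hα fun y hy => ?_)
    rcases (four_el a5 z2 (a6 e (Nz.of_mem he) w z2) h4 (n1 e h4) h5 h3).2 y hy with rfl | rfl | rfl | rfl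
    exacts [map_one α, h1, h6, by rw [map_mul, h1, h6]]

end comm

/-- the structure of the defect group -/
theorem grp {Q : Type} [Group Q] [Finite Q] {E : Subgroup (MulAut Q)} (hc : ∀ x y : Q, x * y = y * x)
    (hQ : IsPGroup 2 Q) (hE : ¬ 2 ∣ Nat.card E) {R : Subgroup Q} (hR : R.index ≤ 4)
    (hRE : ∀ e ∈ E, ∀ r ∈ R, e r = r) {α : MulAut Q} (hα : Nz E α) (hne : α ≠ 1) :
    ∃ (L : Subgroup (Q →* ℂˣ)) (v : Q), Nat.card Q = 4 * Nat.card L ∧ (∀ l ∈ L, l v = 1) ∧ v ≠ 1 ∧ v * v = 1 ∧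
      (∀ e ∈ E, e v = v → e = 1) ∧ (∀ γ, Nz E γ → (∀ l ∈ L, ∀ x, l (γ x) = l x) ∧ ∃ e ∈ E, e (γ v) = v) ∧
      ∀ e ∈ E, e * α = α * e → ∀ u, α u = u → e u = u := by
  let _ : CommGroup Q := { (inferInstance : Group Q) with mul_comm := hc }
  obtain ⟨V, v, h1, h2, h3, h4, h5, h6, h7⟩ := grp0 hQ hE hR hRE hα hne
  refine ⟨ann V, v, ?_, fun l hl => hl v h2, h3, h4, h5, fun γ h => ⟨fun l hl x => ?_, (h6 γ h).2⟩, h7⟩
  · rw [card_ann fun x y => by simp, ← h1, Subgroup.card_mul_index]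
  · have h8 := hl _ ((h6 γ h).1 x)
    rwa [map_mul, map_inv, inv_mul_eq_one, eq_comm] at h8

end Cfsg.Agent.BH.V4
end

-- part: BH/Row2L/LCp
section
prune_inst 0x4010000
set_option linter.all false
open scoped Cfsg.Agent.FastGrp

/-!
# BH, row `2` : small Cartan matrices which are invertible modulo two (helper95)
-/

set_option autoImplicit false
set_option linter.unusedSectionVars false

namespace Cfsg.Agent.BH.R2.LCo

open Matrix

/-- `A₂` -/
def C2 : Fin 2 → Fin 2 → ℤ := ![![2, -1], ![-1, 2]]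

/-- `A₂ A₂` -/
def C22 : Fin 4 → Fin 4 → ℤ := ![![2, -1, 0, 0], ![-1, 2, 0, 0], ![0, 0, 2, -1], ![0, 0, -1, 2]]

/-- `A₄` -/
def C4 : Fin 4 → Fin 4 → ℤ := ![![2, -1, 0, 0], ![-1, 2, -1, 0], ![0, -1, 2, -1], ![0, 0, -1, 2]]

/-- the index of an unordered pair -/
def ix : Fin 4 → Fin 4 → Fin 6 := ![![0, 0, 1, 2], ![0, 0, 3, 4], ![1, 3, 0, 5], ![2, 4, 5, 0]]

/-- the matrix of a graph -/
def gm (g : Fin 6 → Bool) (i j : Fin 4) : ℤ := if i = j then 2 else if g (ix i j) then -1 else 0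

theorem four : ∀ g : Fin 6 → Bool, (∃ i j l, i ≠ j ∧ i ≠ l ∧ j ≠ l ∧ gm g i j = -1 ∧ gm g i l = -1 ∧ gm g j l = -1) ∨
    (∃ y : Fin 4 → ZMod 2, y ≠ 0 ∧ ∀ i, ∑ l, (gm g i l : ZMod 2) * y l = 0) ∨
    ∃ π : Equiv.Perm (Fin 4), (∀ i j, gm g i j = C22 (π i) (π j)) ∨ ∀ i j, gm g i j = C4 (π i) (π j) := by
  decide +kernel

/-- both values -/
def all63 (f : Bool → Bool) : Bool := f false && f true

/-- one value -/
def any63 (f : Bool → Bool) : Bool := f true || f false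

theorem all63_of {f : Bool → Bool} (h : all63 f = true) : ∀ b, f b = true
  | false => (Bool.and_eq_true_iff.1 h).1
  | true => (Bool.and_eq_true_iff.1 h).2

theorem any63_of {f : Bool → Bool} (h : any63 f = true) : ∃ b, f b = true :=
  (Bool.or_eq_true_iff.1 h).elim (fun h => ⟨_, h⟩) fun h => ⟨_, h⟩

/-- a row -/
def row63 (a x b y c z d u : Bool) : Bool := !(xor (xor (xor (a && x) (b && y)) (c && z)) (d && u))

theorem five63 : (all63 fun a => all63 fun b => all63 fun c => all63 fun d => all63 fun e => all63 fun f => all63 fun g =>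
    all63 fun h => all63 fun i => all63 fun j => any63 fun x => any63 fun y => any63 fun z => any63 fun u =>
      row63 d x g y i z j u && any63 fun v => row63 a y b z c u d v && (row63 a x e z f u g v && (row63 b x e y h u i v &&
        (row63 c x f y h z j v && (x || y || z || u || v))))) = true := by
  decide +kernel

/-- the residue of a Boolean -/
def tb63 (b : Bool) : ZMod 2 := cond b 1 0

theorem row63_of : ∀ {a x b y c z d u : Bool}, row63 a x b y c z d u = true →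
    tb63 a * tb63 x + tb63 b * tb63 y + tb63 c * tb63 z + tb63 d * tb63 u = 0 := by
  have m : ∀ a b : Bool, tb63 a * tb63 b = tb63 (a && b) := by decide
  have p : ∀ a b : Bool, tb63 a + tb63 b = tb63 (xor a b) := by decide
  intro a x b y c z d u h
  rw [m, m, m, m, p, p, p, (Bool.not_eq_true' _).mp h]
  rfl

theorem five : ∀ a b c d e f g h i j : ZMod 2, ∃ x y z u v : ZMod 2, ¬ (x = 0 ∧ y = 0 ∧ z = 0 ∧ u = 0 ∧ v = 0) ∧
    a * y + b * z + c * u + d * v = 0 ∧ a * x + e * z + f * u + g * v = 0 ∧ b * x + e * y + h * u + i * v = 0 ∧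
    c * x + f * y + h * z + j * v = 0 ∧ d * x + g * y + i * z + j * u = 0 := by
  have s : ∀ a : ZMod 2, ∃ b, a = tb63 b := by decide
  have n : ∀ x y z u v : Bool, (x || y || z || u || v) = true →
      ¬ (tb63 x = 0 ∧ tb63 y = 0 ∧ tb63 z = 0 ∧ tb63 u = 0 ∧ tb63 v = 0) := by decide +kernel
  intro a b c d e f g h i j
  obtain ⟨a, rfl⟩ := s a
  obtain ⟨b, rfl⟩ := s b
  obtain ⟨c, rfl⟩ := s c
  obtain ⟨d, rfl⟩ := s d
  obtain ⟨e, rfl⟩ := s e
  obtain ⟨f, rfl⟩ := s f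
  obtain ⟨g, rfl⟩ := s g
  obtain ⟨h, rfl⟩ := s h
  obtain ⟨i, rfl⟩ := s i
  obtain ⟨j, rfl⟩ := s j
  obtain ⟨x, k⟩ := any63_of (all63_of (all63_of (all63_of (all63_of (all63_of (all63_of (all63_of (all63_of (all63_of
    (all63_of five63 a) b) c) d) e) f) g) h) i) j)
  obtain ⟨y, k⟩ := any63_of k
  obtain ⟨z, k⟩ := any63_of k
  obtain ⟨u, k⟩ := any63_of k
  obtain ⟨k5, k⟩ := Bool.and_eq_true_iff.1 k
  obtain ⟨v, k⟩ := any63_of k
  obtain ⟨k1, k⟩ := Bool.and_eq_true_iff.1 k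
  obtain ⟨k2, k⟩ := Bool.and_eq_true_iff.1 k
  obtain ⟨k3, k⟩ := Bool.and_eq_true_iff.1 k
  obtain ⟨k4, k⟩ := Bool.and_eq_true_iff.1 k
  exact ⟨tb63 x, tb63 y, tb63 z, tb63 u, tb63 v, n _ _ _ _ _ k, row63_of k1, row63_of k2, row63_of k3, row63_of k4,
    row63_of k5⟩

theorem three : ∀ a b c : ZMod 2, ∃ x y z : ZMod 2, ¬ (x = 0 ∧ y = 0 ∧ z = 0) ∧ a * y + b * z = 0 ∧ a * x + c * z = 0 ∧
    b * x + c * y = 0 := by
  decide +kernel

/-- the hypotheses -/
structure Hy {I : Type} [Fintype I] (A : I → I → ℤ) : Prop where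
  two : ∀ i, A i i = 2
  off : ∀ i j, i ≠ j → (A i j = 0 ∧ A j i = 0) ∨ (A i j = -1 ∧ A j i = -1)
  tri : ∀ i j l, i ≠ j → i ≠ l → j ≠ l → A i j = -1 → A i l = -1 → A j l ≠ -1
  ns : ∀ y : I → ℤ, (∀ i, 2 ∣ ∑ l, A i l * y l) → ∀ i, 2 ∣ y i

theorem Hy.sym {I : Type} [Fintype I] {A : I → I → ℤ} (h : Hy A) (i j : I) : A i j = A j i := by
  by_cases e : i = j
  · rw [e]
  · have := h.off i j e
    omega

theorem Hy.zm {I : Type} [Fintype I] {A : I → I → ℤ} (h : Hy A) (y : I → ZMod 2) (hy : ∀ i, ∑ l, (A i l : ZMod 2) * y l = 0) :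
    y = 0 := funext fun i => by
  have h1 := h.ns (fun l => ((y l).val : ℤ)) (fun i => (ZMod.intCast_zmod_eq_zero_iff_dvd _ 2).1 (by
    push_cast
    simpa using hy i)) i
  have h2 := (ZMod.intCast_zmod_eq_zero_iff_dvd _ 2).2 h1
  simpa using h2

theorem fin_cls {r : ℕ} (hr : r ≤ 5) {B : Fin r → Fin r → ℤ} (h : Hy B) : r = 0 ∨ (∃ e : Fin r ≃ Fin 2, ∀ i j, B i j = C2 (e i) (e j)) ∨
    ∃ e : Fin r ≃ Fin 4, (∀ i j, B i j = C22 (e i) (e j)) ∨ ∀ i j, B i j = C4 (e i) (e j) := by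
  have h0 : ∀ i, (B i i : ZMod 2) = 0 := fun i => by rw [h.two]; rfl
  interval_cases r
  · exact .inl rfl
  · exact absurd (congrFun (h.zm (fun _ => 1) fun i => by rw [Fin.sum_univ_one, Subsingleton.elim 0 i, h0, zero_mul]) 0) one_ne_zero
  · have k0 := h.two 0
    have k1 := h.two 1
    rcases h.off 0 1 (by decide) with ⟨e1, e2⟩ | ⟨e1, e2⟩
    · exact absurd (congrFun (h.zm (fun _ => 1) fun i => by fin_cases i <;> simp [Fin.sum_univ_two, h0, e1, e2]) 0) one_ne_zero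
    · exact .inr (.inl ⟨Equiv.refl _, fun i j => by fin_cases i <;> fin_cases j <;> assumption⟩)
  · obtain ⟨x, y, z, h1, h2, h3, h4⟩ := three (B 0 1) (B 0 2) (B 1 2)
    have h5 := h.zm ![x, y, z] fun i => by
      fin_cases i <;> simp [Fin.sum_univ_three, h0, h.sym 1 0, h.sym 2 0, h.sym 2 1, h2, h3, h4]
    exact absurd ⟨congrFun h5 0, congrFun h5 1, congrFun h5 2⟩ h1
  · obtain ⟨g, rfl⟩ : ∃ g, B = gm g := by
      refine ⟨fun t => decide (B (![0, 0, 0, 1, 1, 2] t) (![1, 2, 3, 2, 3, 3] t) = -1), funext₂ fun i j => ?_⟩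
      by_cases e : i = j
      · rw [gm, if_pos e, e, h.two]
      have h1 : ∀ i j : Fin 4, i ≠ j → ((![0, 0, 0, 1, 1, 2] : Fin 6 → Fin 4) (ix i j) = i ∧
          (![1, 2, 3, 2, 3, 3] : Fin 6 → Fin 4) (ix i j) = j) ∨ ((![0, 0, 0, 1, 1, 2] : Fin 6 → Fin 4) (ix i j) = j ∧
          (![1, 2, 3, 2, 3, 3] : Fin 6 → Fin 4) (ix i j) = i) := by decide
      have h2 := h.off i j e
      rw [gm, if_neg e]
      rcases h1 i j e with ⟨e1, e2⟩ | ⟨e1, e2⟩ <;> simp only [e1, e2, decide_eq_true_eq] <;> split_ifs <;> omega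
    rcases four g with ⟨i, j, l, h1, h2, h3, h4, h5, h6⟩ | ⟨y, h1, h2⟩ | h1
    exacts [absurd h6 (h.tri i j l h1 h2 h3 h4 h5), absurd (h.zm y h2) h1, .inr (.inr h1)]
  · obtain ⟨x, y, z, u, v, h1, h2, h3, h4, h5, h6⟩ :=
      five (B 0 1) (B 0 2) (B 0 3) (B 0 4) (B 1 2) (B 1 3) (B 1 4) (B 2 3) (B 2 4) (B 3 4)
    have h7 := h.zm ![x, y, z, u, v] fun i => by
      fin_cases i <;> simp [Fin.sum_univ_five, h0, h.sym 1 0, h.sym 2 0, h.sym 2 1, h.sym 3 0, h.sym 3 1, h.sym 3 2, h.sym 4 0,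
        h.sym 4 1, h.sym 4 2, h.sym 4 3, h2, h3, h4, h5, h6]
    exact absurd ⟨congrFun h7 0, congrFun h7 1, congrFun h7 2, congrFun h7 3, congrFun h7 4⟩ h1

/-- a realisation in type `A` with odd blocks -/
structure Re {I : Type} (A : I → I → ℤ) {n : ℕ} (blk : Fin n → ℕ) (s t : I → Fin n) : Prop where
  ne : ∀ i, blk i ≠ 0
  odd : ∀ i, Odd (Finset.univ.filter fun j => blk j = blk i).card
  st : ∀ k, s k ≠ t k ∧ blk (s k) = blk (t k)
  gr : ∀ k l, (HZ.L.X.Norm.ea (s k) (t k)).1 ⬝ᵥ (HZ.L.X.Norm.ea (s l) (t l)).2 = A k l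
  con : ∀ ρ : Fin n → Fin n → Prop, Equivalence ρ → (∀ k, ρ (s k) (t k)) → ∀ i j, blk i = blk j → ρ i j

theorem Re.comp {I J : Type} {A : I → I → ℤ} {C : J → J → ℤ} {n : ℕ} {blk : Fin n → ℕ} {s t : J → Fin n} (h : Re C blk s t)
    (e : I ≃ J) (he : ∀ i j, A i j = C (e i) (e j)) : Re A blk (s ∘ e) (t ∘ e) :=
  ⟨h.ne, h.odd, fun _ => h.st _, fun k l => (h.gr _ _).trans (he k l).symm,
    fun ρ h1 h2 => h.con ρ h1 fun k => by simpa using h2 (e.symm k)⟩

theorem re2 : Re C2 ![1, 1, 1] ![0, 1] ![1, 2] := by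
  refine ⟨by decide, by decide, by decide, by simp only [HZ.L.X.Norm.ea_dot]; decide, fun ρ h1 h2 i j _ => ?_⟩
  have h : ∀ i, ρ 0 i := fun i => by
    fin_cases i
    exacts [h1.1 _, h2 0, h1.3 (h2 0) (h2 1)]
  exact h1.3 (h1.2 (h i)) (h j)

theorem re4 : Re C4 ![1, 1, 1, 1, 1] ![0, 1, 2, 3] ![1, 2, 3, 4] := by
  refine ⟨by decide, by decide, by decide, by simp only [HZ.L.X.Norm.ea_dot]; decide, fun ρ h1 h2 i j _ => ?_⟩
  have h : ∀ i, ρ 0 i := fun i => by
    fin_cases i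
    exacts [h1.1 _, h2 0, h1.3 (h2 0) (h2 1), h1.3 (h1.3 (h2 0) (h2 1)) (h2 2), h1.3 (h1.3 (h1.3 (h2 0) (h2 1)) (h2 2)) (h2 3)]
  exact h1.3 (h1.2 (h i)) (h j)

theorem re22 : Re C22 ![1, 1, 1, 2, 2, 2] ![0, 1, 3, 4] ![1, 2, 4, 5] := by
  refine ⟨by decide, by decide, by decide, by simp only [HZ.L.X.Norm.ea_dot]; decide, fun ρ h1 h2 i j e => ?_⟩
  have h : ∀ i, ρ (![0, 0, 0, 3, 3, 3] i) i := fun i => by
    fin_cases i
    exacts [h1.1 _, h2 0, h1.3 (h2 0) (h2 1), h1.1 _, h2 2, h1.3 (h2 2) (h2 3)]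
  have h3 : ∀ i j : Fin 6, (![1, 1, 1, 2, 2, 2] : Fin 6 → ℕ) i = ![1, 1, 1, 2, 2, 2] j →
      (![0, 0, 0, 3, 3, 3] : Fin 6 → Fin 6) i = ![0, 0, 0, 3, 3, 3] j := by decide
  exact h1.3 (h1.2 (h i)) (h3 i j e ▸ h j)

/-- **the classification** -/
theorem cls {I : Type} [Fintype I] {A : I → I → ℤ} (hc : Fintype.card I ≤ 5) (h : Hy A) :
    ∃ (n : ℕ) (blk : Fin n → ℕ) (s t : I → Fin n), Re A blk s t := by
  let e := Fintype.equivFin I
  have h1 : Hy fun i j => A (e.symm i) (e.symm j) :=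
    ⟨fun _ => h.two _, fun _ _ k => h.off _ _ (e.symm.injective.ne k), fun _ _ _ k1 k2 k3 =>
      h.tri _ _ _ (e.symm.injective.ne k1) (e.symm.injective.ne k2) (e.symm.injective.ne k3), fun y hy i => by
      simpa using h.ns (y ∘ e) (fun i => by
        rw [← e.symm.sum_comp]
        simpa using hy (e i)) (e.symm i)⟩
  rcases fin_cls hc h1 with h0 | ⟨f, hf⟩ | ⟨f, hf | hf⟩
  · have := Fintype.card_eq_zero_iff.1 h0
    exact ⟨0, Fin.elim0, isEmptyElim, isEmptyElim, fun i => i.elim0, fun i => i.elim0, isEmptyElim, isEmptyElim,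
      fun _ _ _ i => i.elim0⟩
  · exact ⟨_, _, _, _, re2.comp (e.trans f) fun i j => by simpa using hf (e i) (e j)⟩
  · exact ⟨_, _, _, _, re22.comp (e.trans f) fun i j => by simpa using hf (e i) (e j)⟩
  · exact ⟨_, _, _, _, re4.comp (e.trans f) fun i j => by simpa using hf (e i) (e j)⟩

end Cfsg.Agent.BH.R2.LCo

private theorem dce_f1281c27f6d9 : _root_.True := by
  try have : _root_.True := by simp only [_root_.Cfsg.Agent.BH.R2.LCo.gm.eq_1]
  exact _root_.True.intro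
end

-- part: SB/SporE/Tits/Data
section
prune_inst 0x3430410177220000081c001262001ef7b3000102006b400131e605020dcfdf01a0472721fed00e1091d6bef4787ec04811000179023800002a00be00411f05a10caf7ae6b73cbf043d0006c0f807590c00000000000000000000000000041000204010000
set_option linter.all false


/-! S5765, row of Tits: data (generated by notes/SB/spor_tools, helper63) -/

set_option autoImplicit false

namespace Cfsg.Agent.SB.SporE.Tits

open Cfsg.Agent.SB Cfsg.Agent.SB.Spor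

noncomputable def lk (t i : ℕ) : ℕ := Nat.land (Nat.shiftRight t (Nat.mul (nat_lit 11) i)) (nat_lit 2047)

noncomputable def t0 : ℕ :=
  nat_lit 0x1e8a72a235a95469bb4b350e189c5b2815100c3230c2ef662204638ced4cadf52a5eb32cae9b2336bcd1b91d941668510608f0ce9b95fd6dc7c6b98f62956d1b8377b12b5231cac2ee2557306e06a110312fecaa25e8aae4152f488c4340ec8ca22508d16d91388b57f6f5e12b00f05102c4665a508466ccced9cb826f7d62f9a615dc1a3d18654f733680a6cc239c58a942bfae29a7052f1a935472232645f599a8d62461a234f23811c5bc0cc130780bf3419e03bb395628727210b40e151fac7a32cdb1d593c281138c60019f56e7e22a7133cb1ecc912850d8823ea4a81c76106b3e166d5714a9ba94980d7a14e415486729de8f39b7f01ea21a965f1298914a4c1d36517beb3626405b121820691ba2a64e8034603bfa94c4ae8a1c42b604f4ac2e36de3767c8139ca084d5b60a1936610cfa2f7d32ba40148047ab24f1aa2d992352f144be577603a70da9278cae2b0a3cb87ac581904ddb5a2624bd59210918572418641d6395d60a4db5001593b44ce79568e2d791e5362089b5b7226d13d0004926328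e89a8c7c2c067dcfa10b3832688d5c134a0622d2af62412dcf52f150973fba8535ae12e2c169fdd50e33e479dd3d7854a54763cd37bab5002023aa178e82816d6470a858f56fd142cfd337fe19e773626ad30f271e455ef4748378bcebc0920706b387509dce048d8c455ff9592920a3edc8749de7d861c0e8731985259b08fe4588c885819105d007dd975850ba74b4bbe0d538fee587e0ee31e52d3d4cf698c90ef9ba274d363718a322735bd02b8d5d5a9a4300feb44d5c669c5e0395aa4c18608d50bcd2df1c4e5c387b2d5a2a0c26cb68838b2367472c313e8dd76008ba0391dd3a9dae2b500c3a017038611801005e6d3c259261d1c3ea11ae9dce1c8fa3e249c8330570fda1866086922638ccc9df3a88f4afbdd9bc2e41696fb2334e2585c0e21abb314ea36863c98bd85c47df18d53453eeb48628cf4fdd96356799440462067dd95698ea5923ed95437628102dba32ea2f55029f124164bfd5df1011a4059627459a1ab7e621e3915b7bd7ddd72bad18438ba48883cf36e89ff61ab45ae18b53c9c8eae61322a4b39a41b50b4e95828b9969725a2e0d7501e44e5d44892dd0078dc52dc2d23140193389b48aa442cbacf7cc688ed5c1178a290ac824855f9d6e117a8e290fb3781a7eb6340653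8bf6131e2884f5cfb2d92a57729a5d7ca75f025331128504aa9bd73e7773fb8447e0859ce0155d84c2c1d66eb929c44d05268aeb1c871a3595f7db6ce442efb51ed272a93dda305557a0791f29e2264bd5f7263ae1012f4f34b5929325571db5723a8d16aad84eb0dd77f16d12c473394b1fe1f90fc9db08ab772b629fba2b9f4f758884232f1562f77fae0f9cfdb284ade54980e63420c675ac083141ca65006f2b834f40d974b465197b7b6a43da7029ab5e1f81450757ce28706dcd2536d812c62bb504c74935d107901353a901994b95058b84d2ac194b1b29d4926479aa187328b3b34731071b5849cc8cac9ce00335ccd4509af9d8c7e741d8502e597e51a01e2f72f40017e6a1cb8b3a8e72f6941b906b39094ca5739ab2c0cf9e350cf6aa04ea06cd005f1890de43529bd875d680e87f22e6da6cfb86c2d31c3eb22728f63d56d80d01cd07a78b01d25f27ee8d47917e6a0ef21d9d426e09ee9b74d0b6f9dbdd4d3138e4fd8c9fcebefcb2dc8f22d4358b88eb78a1b9b090d9524056522d04a64b2d921d93d42856f3f35d0b827a980a810c44f7180bcf979c4ce30d03d5425df648acfc8c836b6ecc89fa35c57c498c2a6407c443e5a010620933d97c7e4383faec06f922aa51cd30bcad0b079d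c90319b245acc34acc21b5584f6859620f488874e223b9ec148c66cd22d1a5fd4b62dcd61a76577ac821c159812c2d2b603315c6c1719775047f4730354e99b5b78474925719fe4224260c0f8ba0e4d0f5bd93d0f4d8235f3a100b7432103652a2f0ad7c524a9a4d8f8ff1bd88dfe98d96dbbbe9822c9d314e22bfaf5646402a8374fce7878500d51a58c690060cc742fa4d4b9c24116c8af3014b816e21e31b8c5a0afc65f2cb8146558eaeba9a2e56b11139f0a3fe131788f494770cf4a39c6c8ba73d4f8e174c1c58b41738e83615cc16c8b546e0b7260bd9d287c5f693da93799778b05930009e4a40830222f44662c2a4b3283381d925b334a4408230a6153b7f18c046aa0e731cb59733696ae2572cc1c735a70a490731b4931d914643824da80cb370bf60b055ef6adedc5318068c544f58240bb6a288309592dd8694bb136aee3832abd26a1f5890d4f15d967194be8b3e26c0ad9e39cc928bd4cb2adc0c62a494bfc36724f04469e1956d7a3e6e18c50f3206e3571382a6b02825429b71d89ceb7c43c20a3b3133d968a749f46773b1c0bb445b068f66e0823e8663023d81d2b1ed23b678af7f58b681021676c2769b56d4d62aad6cee42030f459126fa53557747184de40d4d86915c908ad7d2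356dbbce02ce9288894e83dca75994fcd3ad8d129e19b1beb0fb6748d7a7629aebb971326358ef145a9b443681a923a9164da5b9ee816eaa9b6257c3172196f9839d669628c80a0fdbf1cb6c5328dba125675faff2d246d8225798e48b3d09c186705264b00eaa3ddab5a4f92312013f7f05e15f603d40ce973ac226829303ea819956b3d84b63b9306d514db42682aa68b88619aed535c905433684952ba68ebf0ccc7c10a43d15f63741c9eb5d88562be74a9203490d492c5ed5837b2e5768ca1c50f043ccb8010982da966a32b07a858d3903cfaa64ed324c36324cff1ee4365d4aba023bae2acb97c51357b486b72e605abc90b52aab87dae87c735ddd42e3ece815e42337ae3afac00d296ec2349c89af459093a694894e971276cb519ab9081ed6868c418f2c248d5175fd331c0c1827815ae59714e1becb37e8298133d37ebb54b0b1995a88c29b928663fece63645395093836415a68d0902858bb7296b57dd35f1380a0fe04da32f30834a9775b35b8fc8f306c4165d6ac142025b0c8e2474ad0b5fe0ab71c3c514315688e3f664f2c8b7eb5995a6d483aacc02a30ac6ab063294de89280db735ef1922516a379d1ad29e6946051b34bd48480c367987215ede06a81697552e4c8c2b3a47799633888a2a1db9ba7211531f1b530d0a9352d40133c594e78302a88bf75a87d3e520ad449903d9780aa32c146c0fa93555bb63243126db9a74e289e37a1b2921d3161d59dcc16bc2da2f0e0e27403c292a5f9becccd567730e0b2fdebed32604b034d34987e3e6bb8f280cdfaf8304f6768c10671a35e20aa58d2871ee3e787a774ab14c30ef9ee3912d87bc6f967606110f09e8afaee084c78337a9d2d69b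

noncomputable def t1 : ℕ :=
  nat_lit 0x2c8acbde16da705adab23ab326d51cbb024b6ae15bae5e9f0848ade297273b1cd2c768bdca2ac49f67e70d0dac3452be97ea664bd53456575378ecc0112663963911922be83d3365fc8d68c1fe5df418cdcc198c76c5a5b8c92a11f869ede5b0d3425430ac91d23c76670358e24c2ed8c53f191b0722aba44c4784c2cea1607c7dbf91067b52323828f01e31489922c2addd5ea9095a96398202da26f5271103aaf2b440e4e790525c72491eabdfbc645b106a9a228fe320266cb1a09c3a1aa3d4694b996900f9cc715ed9a5023ca780f84a66486db58a7aea35053a849f706b3f6376f5641bfcaf4c2b513a3131a59808d743eb09136a65355762c61c67102bbbc7acc65e5efd35329af13711699e564df024b0e3a4a0cd473cfed4a53e4e0eb15304f8ad52300a3afc063386360891314e3b8e0165400165c6f68a146d29047268b337866899bd54f6f58a29fa2795995ad9f8459fa22690c22788bf2d5bf40fd212f07695067a94e87e61ef81587af2932d10d16390de6876ce317eeadf4bed96440e304d3417340fa1cf9baa36a7ca928ed760d02adc1f4c6cc0774214009c72ebe78ea90f3a6cda9aa3d9240321b835d42963208c4a0f2eb5048d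23e0f3ec70533a1460af7bb4427583a7ed95a28aab5ae109d44204b713edc4679156535b5874095ae1ca3125d0384853e4415cd3f31a0e08ceb28911791344b0a83b92944ba81b2e7661bad975a628b45a350d823136ce29867a67d3372324e30a825951c84deb752d2c637bae0ef9fd194ef2bf7031b614af47611798b5302849b39325e4452f58d3248edf60a4d27098f749ebc8178875840835c68fae86c1107624b0bf0f81d84d3160b79dc35abdc9b5ea40089008b3948b17ef1ddbd432dad0cad85c4c1030195251a875f63085ad936524229a78115ff443b7d4ade923e77cb9c31308b5b93d39ba7382235d1502a99a01bd5679f6fc6ce245ce83d1fbbbf788c64b04316984575f116a4c354f9bb593848e79e0c66d262408668e6710f50b78f8bba1089574017e0f2d68dd7187192d6d9954928f3650750e75cc90801c63c3ca53284370df00c157699947281c44eb2bae4f22e4531646b9920cc65834d4c448f6cd538995d1d499e4328994437c62baf1ac714e02ccec5c698d7e8d426802de5443e0dec840c56fb5248243d058ee475df984b5420be2f537872feba449d3da1228e5a7a8970e210d8d957209fa185f76157eb849c683c529fe6831f9ac73b0da8893d9e0db552a35b9c9688d99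730c8b1e660756e21854c128a99424922838c9bad8c663beae00a65b9fae24fb4021a35d4b26134be1e981a16c52cdec3483d16ac1288a060508d611a76ff69eed38e670b1e0f910bcdaaf3b44a52b9770b0ba274d5e026a082cfc93c8e972f166caadab07a161f2f5743aa056033db0f2935d092a0fa32fda91b9a8c77134612342c50431cb020d8e204ab3068c2768fccf0dfb3d093b013aad196bb6a592b16fc52c9aa920ceef1d5a343076ea892cbb1f86b49314b18f3cc6b83d2f1c6b6d1554478564a8959a4a08c3cb9e83316959321ea4e176bd8c07d18bc2ab126408ca4091b215c83ea115a75d4ea1b0a33cae078c623393ede907cdbc0ee8125628cc20603920d2a92ad8151a9319cb56c11e2c08427db28144102f65e012803173066d50f15c05e4911d56091d575b1cc9511e9946d5c591da56acadc0d93d4647b30046d5a6b404901207b0b141b573592779cc1c85b7e979df68f673eb7e57e6d2ce5504481a02c768ee8464e05ca6a882b04e059d961197b4b1ab0d6615e4603156a5991ae253b1784025c1575432743b0c1fd97a7f16a9da76d59ea50276caae45d8364e6adcc355978d048fd9b7691e885aac088ee2800a4603934341c928fe3bbc02911f63c5309d59e8c7e222d2ba8f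7bc938647d361b934a995993750a97b1cb4e7432f7271569b966558b5e09f4d350ab718169dce60a72c4cbee6e9f243436f5b0f826400398c42ab66d4819338e39a6ba64118beabb5b064190849965c08099e2d6a0b27ddedb1b7fac1a1a3fb96774c37b95b83438c0ca6bbad09ef8103a78d07033908980b3bd001d07fe4fb25a3214d183076914ec82afc838a8d43cec9bacb617930d088dd7eeb391850976345c1f94962b6a349642d41911a40be3d2f881ba55406d0715544016c99cc809e9ed63853f29c131b68101d18be5cb56028666032426cb17629e23d45a430fad592e9718aae3cfe2f67f81fea02e9538798c4d91cce9c9502254033a5b959a20c55e68ed7d11a447e4b9014a2a01e17c3fac80606895b8df4c24b3698636293fcc58e1b397c2eae15e0c9622eb21e19bba540aebdc30cb867c55d2e50b88eb81513c113ab12b4528a3e9d2d8171684f2cb7100a3505aa1ac82a8273339779bc0c445c996bc6b6bb700ffc83e0a356aedc6bb668cbcc0be2aca74f57fdfca5ecb0571eb343946a2cba711b4613c42d98272a58752a53826835857fb50964a95c75d069d4d7d73492563b4c22b62e568be7878b984d0c389d790f242f12edcdc983140dd9329294be73eaaa41976d24adb812c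e9cd01b77acf8c646803c8424a4c8c74dbb12274d2c02c2b8946930e085554afe7007ab5f28756590de174a36332d1b05d6d615a5752374810b1fc8c1496ea22c8883c438e414d1c3589d0bc41a54415a62487828e0b43818cb5d773c83e74f4566f91da7ba0e6c613ca0a1b2e92daad4c2345141859e81bdad730b1011c30f366127c5396473406440ab5fbacc787c957820008c44f8b05218bee574f209557d26b26d5a6b52cbc20226a6fba14859075bbc87374d88ccb749b9a9a3fdd906fb650363398a2d22d80886567529166c1230418c293eb9e33a9b6b88ddb61a032e12f6ffdf5a1177007e574a05be663fa43a6a216db33f2d751e3e305a8601dc9b6d6bd19a9b276726a53eb4b9eda5f7d8140eee85ea11d75ae1f22a9489392f468fc0268d6a0305ef7b6968f054e35c1c67c5df6f4653997175f2dbd56b869ff02bced7836e9c86a30442de340f395485ec67b9dd92e4eccda48e09532586b64822324c7e6b01954b859fb203a01cbbc716620238f717a6061922427b0e96e01ad3a1a90264eb1176ce1a8ed541ad4f956cd2aadbfa50f99b9e2d945574f4ab20fd6028b0efb6d4823284c9050e9f2b6474c8b5facf992b5e2efc40738e10e40a245cd5344caad1d360df30199767a4cda29ad0ed420e21c24735ca2a97d3e0ef24f4f921a035374a98f86cd132076951c9fe44f8390fe997a06cd7f4b4292ae554347719abd35501b302698f41ac508e95e6cb8294dac4378867350db9cd6268f70d944736cfef93da0bab4141a361ef4882b6aa33b18ccc66b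

noncomputable def E0 : List ℕ :=
  [t0, t1]

end Cfsg.Agent.SB.SporE.Tits
end

-- part: BH/RowO/GL1
section
prune_inst 0x3000410126220000001c000260001ef2b3000002004b0000010400000c818c0000012620a2000010100088c400380048110000200010000000000c00411904810880420033000104240006800000410000000000000000000000000000000000204010000
set_option linter.all false
open scoped Cfsg.Agent.FastGrp

/-!
# BH, `RowO`: linear and unitary groups, the end game for small defect groups (helper83)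

`FA e ρ` : all functions of the weights which commute with `ω ↦ ω ^ e` are realised; `main3` : for `3 ∣ e - 1` a defect group of order
at most `81` is abelian if the members of the block which are trivial on a central `3`-subgroup have height zero.
-/

set_option autoImplicit false
set_option linter.unusedSectionVars false
set_option maxHeartbeats 400000

namespace Cfsg.Agent.BH.RO.Gl

open Cfsg Subgroup Matrix Cfsg.Agent.BZ.Lab Cfsg.Agent.BZ.Cl Cfsg.Agent.KM

variable {k : Type} [Field k] [IsAlgClosed k] {I : Type} [Fintype I] [DecidableEq I] {K : Type} [Group K] [Fintype K]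

/-- the functions of the weights are realised -/
def Fs (e : ℤ) (ρ : K →* GL I k) (h : GL I k) {A : Type} [Group A] (w : I → A →* kˣ) : Prop :=
  ∀ f : (A →* kˣ) → kˣ, (∀ i, f (w i ^ e) = f (w i) ^ e) → ∃ g, _root_.Cfsg.Agent.BZ.Cl.mt ρ h g = diagonal fun i => (f (w i) : k)

/-- **the class** -/
structure FA (Q : ℕ) (e : ℤ) (ρ : K →* GL I k) : Prop where
  fo : Fo 2 Q ρ
  eq : e = Q ∨ e = -(Q : ℤ)
  inj : Function.Injective ρ
  fn : ∀ s : ℕ, s.Prime → ¬ s ∣ Q → s ≠ 2 → ∀ (A : Type) [Group A] [Finite A] (ι : A →* K), IsPGroup s A →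
    (∀ a b : A, a * b = b * a) → ∃ (h : GL I k) (w : I → A →* kˣ), Dg ρ ι h w ∧ (∀ i, ∃ j, w j = w i ^ e) ∧ Fs e ρ h w

variable {Q r : ℕ} {e : ℤ} {ρ : K →* GL I k} {h : GL I k} {P : Subgroup K} {w : I → P →* kˣ}

theorem fn_zpow' {Γ A : Type} [Group Γ] [Group A] {φ : Γ → A} (h1 : ∀ ω, φ (ω ^ Q) = φ ω ^ Q) (h2 : ∀ ω, φ ω⁻¹ = (φ ω)⁻¹)
    (he : e = Q ∨ e = -(Q : ℤ)) (ω : Γ) : φ (ω ^ e) = φ ω ^ e := by
  rcases he with rfl | rfl
  · rw [zpow_natCast, zpow_natCast, h1]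
  · rw [_root_.zpow_neg, _root_.zpow_neg, zpow_natCast, zpow_natCast, h2, h1]

theorem zpow_fix {Γ : Type} [Group Γ] {x : Γ} {t : ℕ} (h1 : (t : ℤ) ∣ e - 1) (h2 : x ^ t = 1) : x ^ e = x := by
  obtain ⟨c, hc⟩ := h1
  rw [show e = t * c + 1 by rw [← hc, sub_add_cancel], _root_.zpow_add_one, _root_.zpow_mul, zpow_natCast, h2, _root_.one_zpow, one_mul]

namespace FA

variable (C : FA Q e ρ)
include C

theorem hq : HQ Q e := ⟨1, by rw [pow_one]; exact C.eq⟩

theorem real {A : Type} [Group A] {w : I → A →* kˣ} (hF : Fs e ρ h w) {f : (A →* kˣ) → kˣ} {t : ℕ}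
    (h1 : ∀ i, f (w i ^ e) = f (w i) ^ e) (h2 : ∀ ω, f ω ^ t = 1) : ∃ g, g ^ t = 1 ∧ _root_.Cfsg.Agent.BZ.Cl.mt ρ h g = diagonal fun i => (f (w i) : k) := by
  obtain ⟨g, hg⟩ := hF f h1
  refine ⟨g, C.inj (mt_inj (h := h) ?_), hg⟩
  rw [map_pow, hg, diagonal_pow, map_one, ← diagonal_one]
  exact congrArg diagonal (funext fun i => by rw [Pi.pow_apply, ← Units.val_pow_eq_pow_val, h2, Units.val_one])

variable (R : _root_.Cfsg.Agent.BZ.Cl.Pr 2 Q 3 r 1 (Fintype.card I)) (h3 : (3 : ℤ) ∣ e - 1)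
include R h3

theorem r_dvd : (r : ℤ) ∣ e - 1 := (tr R.eo R.ppl R.ppr C.hq HQ.one).1 (by simpa using h3)

/-- the weights of an `r`-subgroup are rational -/
theorem exists_wt (hP : IsPGroup r P) (h0 : P ≤ centralizer (P : Set K)) :
    ∃ h w, Wt 2 Q r ρ P h w ∧ ∀ f : (P →* kˣ) → kˣ, (∀ ω, f ω ^ 3 = 1) →
      ∃ t ∈ Zl 3 P, _root_.Cfsg.Agent.BZ.Cl.mt ρ h t = diagonal fun i => (f (w i) : k) := by
  obtain ⟨h, w, k1, k2, k3⟩ := C.fn r R.rp R.rQ R.r2 P P.subtype hP fun x y => Subtype.ext (h0 y.2 x x.2)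
  have W : Wt 2 Q r ρ P h w := ⟨hP, h0, k1, fun i => by
    obtain ⟨j, hj⟩ := k2 i
    obtain ⟨j', hj'⟩ := k2 j
    refine ⟨j', MonoidHom.ext fun a => ?_⟩
    rw [hj', hj, MonoidHom.zpow_apply, MonoidHom.zpow_apply, MonoidHom.pow_apply, ← _root_.zpow_mul, ← zpow_natCast]
    congr 1
    rcases C.eq with e1 | e1 <;> rw [e1] <;> push_cast <;> ring,
    fun t f _ e1 e2 _ => k3 f fun i => fn_zpow' (Γ := P →* kˣ) e1 e2 C.eq _⟩
  refine ⟨h, w, W, fun f hf => ?_⟩
  have h4 : ∀ i, w i ^ e = w i := fun i => by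
    by_cases hi : w i = 1
    · exact MonoidHom.ext fun a => by rw [MonoidHom.zpow_apply, hi, MonoidHom.one_apply, _root_.one_zpow]
    obtain ⟨b, h1, h2⟩ := pp_ord R.rp W.pg hi
    obtain ⟨s, h4, h5, h6⟩ := per (Γ := P →* kˣ) (Q := Q) (w := w) (hom_per R.rp R.rQ W.pg) W.cl i
    have h7 := dvd_of_per h6
    rw [h2] at h7
    exact zpow_fix (Γ := P →* kˣ) ((tr (eo_pow R.rp h1 h4 (h5.trans_lt R.big) h7) R.ppr ⟨r, b, R.rp, R.r2, R.rQ, h1, rfl⟩ C.hq HQ.one).1
      (C.r_dvd R h3)) (h2 ▸ pow_orderOf_eq_one _)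
  obtain ⟨t, k4, k5⟩ := C.real k3 (f := f) (fun i => by rw [h4, zpow_fix h3 (hf _)]) hf
  exact ⟨t, mem_zl (b := 1) h0 (fun g hg => C.fo.comm_fn k1 k5 (by decide) k4 fun y => (hg y y.2).symm) k4, k5⟩

/-- an eigenvalue of order dividing three gives an `r`-element -/
theorem exists_y {x : K} {b : ℕ} (hx : x ^ 3 ^ b = 1) {μ : kˣ} (hμ : μ ^ 3 = 1) : ∃ (y : K) (ξ : k), y ^ r = 1 ∧
    (∀ g, Commute g x → Commute g y) ∧ ∀ v, _root_.Cfsg.Agent.BZ.Cl.mt ρ h x *ᵥ v = (μ : k) • v ↔ _root_.Cfsg.Agent.BZ.Cl.mt ρ h y *ᵥ v = ξ • v := by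
  classical
  obtain ⟨h', w, k1, -, k3⟩ := C.fn 3 R.lp R.lQ R.l2 _ (zpowers x).subtype (zp_p hx) zp_comm
  obtain ⟨ξ, hξ⟩ := C.fo.exists_prim R.ppr
  have h1 : ξ ≠ 1 := fun e1 => R.rp.one_lt.ne (by rw [← hξ, e1, orderOf_one])
  have h2 : ξ ^ r = 1 := hξ ▸ pow_orderOf_eq_one ξ
  let x' : zpowers x := ⟨x, mem_zpowers x⟩
  obtain ⟨y, k4, k5⟩ := C.real k3 (f := fun ω => if ω x' = μ then ξ else 1) (t := r) (fun i => by
      have e1 : (w i ^ e) x' = μ ↔ w i x' = μ := by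
        rw [MonoidHom.zpow_apply]
        refine ⟨fun e1 => ?_, fun e1 => e1 ▸ zpow_fix h3 (e1 ▸ hμ)⟩
        have e2 : (w i x' / μ) ^ e = 1 := by rw [div_zpow, e1, zpow_fix h3 hμ, div_self']
        have e3 : (w i x' / μ) ^ 3 ^ (b + 1) = 1 := by
          rw [div_pow, ← map_pow, pow_succ, pow_mul, show x' ^ 3 ^ b = 1 from Subtype.ext hx, one_pow, map_one, mul_comm, pow_mul, hμ,
            one_pow, div_one]
        have e4 : (w i x' / μ) ^ Q = 1 := by
          rcases C.eq with e5 | e5 <;> rw [e5] at e2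
          · rwa [zpow_natCast] at e2
          · rwa [_root_.zpow_neg, zpow_natCast, inv_eq_one] at e2
        exact div_eq_one.1 ((pow_eq_one_iff_of_coprime (((Nat.Prime.coprime_iff_not_dvd R.lp).2 R.lQ).pow_left _)).1 ⟨e3, e4⟩)
      simp only [e1]
      split_ifs
      · exact (zpow_fix (C.r_dvd R h3) h2).symm
      · exact (_root_.one_zpow e).symm)
    fun ω => by
      split_ifs
      · exact h2
      · exact one_pow r
  refine ⟨y, ξ, k4, fun g hg => C.fo.comm_fn (f := fun ω => if ω x' = μ then ξ else 1) k1 k5 R.rc k4 (comm_zp hg), fun v => ?_⟩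
  have hi : Function.Injective fun u : I → k => ((h'⁻¹ * h : GL I k) : Matrix I I k) *ᵥ u :=
    mulVec_injective_of_isUnit (Units.isUnit _)
  have hd := k1 x'
  rw [coe_subtype] at hd
  rw [← hi.eq_iff, ← hi.eq_iff (a := _root_.Cfsg.Agent.BZ.Cl.mt ρ h y *ᵥ v)]
  simp only [← mt_change, mulVec_smul]
  rw [hd, k5, funext_iff, funext_iff]
  refine forall_congr' fun i => ?_
  rw [mulVec_diagonal, mulVec_diagonal, Pi.smul_apply, Pi.smul_apply, smul_eq_mul, smul_eq_mul, mul_eq_mul_right_iff,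
    mul_eq_mul_right_iff, Units.val_inj, Units.val_inj]
  refine or_congr_left ?_
  split_ifs with e1
  · exact iff_of_true e1 rfl
  · exact iff_of_false e1 h1.symm

end FA

/-- the action on a weight space -/
@[reducible] def act (hw : Dg ρ P.subtype h w) (ω : P →* kˣ) {D : Subgroup K} (hD : D ≤ centralizer (P : Set K)) : MulAction D (Sp w ω) where
  smul g v := ⟨_root_.Cfsg.Agent.BZ.Cl.mt ρ h g *ᵥ v, by
    have := hw.sp ⟨g, centralizer_le_normalizer _ (hD g.2)⟩ v.2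
    rwa [ac_cen (hD g.2)] at this⟩
  one_smul v := Subtype.ext (show _root_.Cfsg.Agent.BZ.Cl.mt ρ h 1 *ᵥ v.1 = v.1 by rw [map_one, one_mulVec])
  mul_smul a b v := Subtype.ext (show _root_.Cfsg.Agent.BZ.Cl.mt ρ h (a * b) *ᵥ v.1 = _root_.Cfsg.Agent.BZ.Cl.mt ρ h a *ᵥ (_root_.Cfsg.Agent.BZ.Cl.mt ρ h b *ᵥ v.1) by rw [map_mul, mulVec_mulVec])

theorem single_mem (j : I) : (Pi.single j 1 : I → k) ∈ Sp w (w j) := fun _ hi => Pi.single_eq_of_ne (fun e => hi (congrArg w e)) _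

theorem pow_eig {g : K} {v : I → k} {μ : kˣ} (hμ : _root_.Cfsg.Agent.BZ.Cl.mt ρ h g *ᵥ v = (μ : k) • v) (s : ℕ) : _root_.Cfsg.Agent.BZ.Cl.mt ρ h (g ^ s) *ᵥ v = ((μ ^ s : kˣ) : k) • v := by
  induction s with
  | zero => simp
  | succ s ih => rw [pow_succ, map_mul, ← mulVec_mulVec, hμ, mulVec_smul, ih, smul_smul, pow_succ', Units.val_mul]

theorem comm_of {D Γ : Type} [Group D] [Finite D] [Group Γ] (ψ : D →* Γ) (hp : IsPGroup 3 D)
    (h : ∀ a b, ψ a ≠ 1 → ψ a ^ 3 = 1 → ψ b ^ 3 = 1 → ∃ s : ℕ, ψ b = ψ (a ^ s)) (a b : D) : ψ (a * b) = ψ (b * a) := by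
  have : Fact (Nat.Prime 3) := ⟨Nat.prime_three⟩
  have := Finite.of_surjective _ ψ.rangeRestrict_surjective
  have h3 : IsCyclic ψ.range := Solvable.UniqueOrderP.isCyclic_of_uniqueP (by decide) (hp.of_surjective _ ψ.rangeRestrict_surjective) (by
    rintro ⟨_, a, rfl⟩ ⟨_, b, rfl⟩ k1 k2 k3
    obtain ⟨s, hs⟩ := h a b (fun e => k1 (Subtype.ext e)) (congrArg Subtype.val k2) (congrArg Subtype.val k3)
    exact mem_powers_iff_mem_zpowers.1 ⟨s, Subtype.ext ((hs.trans (map_pow ψ a s)).symm)⟩)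
  rw [map_mul, map_mul]
  exact congrArg Subtype.val (h3.isMulCommutative.is_comm.comm (ψ.rangeRestrict a) (ψ.rangeRestrict b))

/-- a `3`-group in which the eigenvalues of order dividing three are scalars on the weight spaces is abelian -/
theorem ab_of_sc (hρ : Function.Injective ρ) (hw : Dg ρ P.subtype h w) {D : Subgroup K} (hD : D ≤ centralizer (P : Set K))
    (hp : IsPGroup 3 D) (hs : ∀ x ∈ D, ∀ j, ∀ μ : kˣ, μ ^ 3 = 1 → ∀ v ∈ Sp w (w j), v ≠ 0 → _root_.Cfsg.Agent.BZ.Cl.mt ρ h x *ᵥ v = (μ : k) • v →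
      ∀ u ∈ Sp w (w j), _root_.Cfsg.Agent.BZ.Cl.mt ρ h x *ᵥ u = (μ : k) • u) : BK.Ab D := fun x hx y hy => by
  have : Fact (Nat.Prime 3) := ⟨Nat.prime_three⟩
  refine hρ (mt_inj (h := h) (Matrix.ext fun i j => ?_))
  let _ := act hw (w j) hD
  let ψ := MulAction.toPermHom D (Sp w (w j))
  have h1 : ∀ (a : D) (v : Sp w (w j)), (ψ a v : I → k) = _root_.Cfsg.Agent.BZ.Cl.mt ρ h a *ᵥ v := fun _ _ => rfl
  have h2 : ∀ a : D, ψ a ^ 3 = 1 → ∃ μ : kˣ, μ ^ 3 = 1 ∧ ∀ u ∈ Sp w (w j), _root_.Cfsg.Agent.BZ.Cl.mt ρ h a *ᵥ u = (μ : k) • u := fun a ha => by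
    obtain ⟨v, hv, μ, k1, k2⟩ := exists_eig hw (hD a.2) j
    have k3 : v = ((μ ^ 3 : kˣ) : k) • v := by
      have k5 := h1 (a ^ 3) ⟨v, hv⟩
      rw [map_pow, ha] at k5
      exact k5.trans (pow_eig k2 3)
    have k4 : μ ^ 3 = 1 := Units.ext (smul_left_injective k k1 (k3.symm.trans (one_smul k v).symm))
    exact ⟨μ, k4, hs a a.2 j μ k4 v hv k1 k2⟩
  have h3 := comm_of ψ hp (fun a b k1 k2 k3 => by
    obtain ⟨μ, k4, k5⟩ := h2 a k2
    obtain ⟨ν, k6, k7⟩ := h2 b k3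
    have k8 : μ ≠ 1 := fun e => k1 (Equiv.ext fun v => Subtype.ext ((h1 a v).trans (by
      rw [k5 v v.2, e, Units.val_one, one_smul]; rfl)))
    obtain ⟨s, -, rfl⟩ := (IsPrimitiveRoot.iff_orderOf.2 (orderOf_eq_prime k4 k8)).eq_pow_of_mem_rootsOfUnity ((mem_rootsOfUnity _ _).2 k6)
    exact ⟨s, Equiv.ext fun v => Subtype.ext ((h1 b v).trans ((k7 v v.2).trans ((h1 (a ^ s) v).trans (pow_eig (k5 v v.2) s)).symm))⟩)
    ⟨x, hx⟩ ⟨y, hy⟩
  have h4 := (h1 _ ⟨_, single_mem j⟩).symm.trans ((congrArg (fun σ : Equiv.Perm (Sp w (w j)) => (σ ⟨_, single_mem j⟩ : I → k)) h3).trans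
    (h1 _ _))
  rw [mulVec_single_one, mulVec_single_one] at h4
  exact congrFun h4 i

/-- the action on the weights -/
@[reducible] def aw (hw : Dg ρ P.subtype h w) : MulAction (normalizer (P : Set K)) (Set.range w) where
  smul g ω := ⟨ac g ω, by
    obtain ⟨j, hj⟩ := ω.2
    obtain ⟨i, hi⟩ := col_ne (ρ := ρ) (h := h) (g : K) j
    exact ⟨i, hj ▸ hw.ac g hi⟩⟩
  one_smul _ := Subtype.ext (ac_one _)
  mul_smul a b _ := Subtype.ext (ac_mul a b _)

/-- the number of the weights -/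
theorem card_w {D : Subgroup K} {ζ : kˣ} (hζ : orderOf ζ = 3) (hf : ∀ f : (P →* kˣ) → kˣ, (∀ ω, f ω ^ 3 = 1) →
    ∃ t ∈ D, _root_.Cfsg.Agent.BZ.Cl.mt ρ h t = diagonal fun i => (f (w i) : k)) : 3 ^ Nat.card (Set.range w) ≤ Nat.card D := by
  classical
  have h1 : ∀ a : Set.range w → Fin 3, ∃ t : D, ∀ i, _root_.Cfsg.Agent.BZ.Cl.mt ρ h t i i = (ζ ^ (a ⟨_, i, rfl⟩ : ℕ) : kˣ) := fun a => by
    obtain ⟨t, k1, k2⟩ := hf (fun ω => if e : ω ∈ Set.range w then ζ ^ (a ⟨ω, e⟩ : ℕ) else 1) fun ω => by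
      split_ifs
      · rw [← pow_mul, mul_comm, pow_mul, orderOf_dvd_iff_pow_eq_one.1 hζ.dvd, one_pow]
      · exact one_pow 3
    exact ⟨⟨t, k1⟩, fun i => by rw [k2, diagonal_apply_eq, dif_pos ⟨i, rfl⟩]⟩
  choose t ht using h1
  have h2 := Nat.card_le_card_of_injective t fun a b e => funext fun ⟨_, i, hi⟩ => by
    subst hi
    have k1 := (ht a i).symm.trans (e ▸ ht b i)
    exact Fin.ext (pow_injOn_Iio_orderOf ((a _).2.trans_eq hζ.symm) ((b _).2.trans_eq hζ.symm) (Units.ext k1))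
  rwa [Nat.card_fun, Nat.card_fin] at h2

/-- a commutator which is not central -/
theorem not_cen (hw : Dg ρ P.subtype h w) {g : normalizer (P : Set K)} {j : I} (h1 : ac g (w j) ≠ w j) (h2 : ac g (ac g (w j)) ≠ w j)
    {y : K} {f : (P →* kˣ) → kˣ} (hy : _root_.Cfsg.Agent.BZ.Cl.mt ρ h y = diagonal fun i => (f (w i) : k)) (h3 : f (w j) ≠ 1) (h4 : ∀ ω, ω ≠ w j → f ω = 1) :
    (g : K) * y * (g : K)⁻¹ * y⁻¹ ∉ center K := fun hz => by
  generalize hz' : (g : K) * y * (g : K)⁻¹ * y⁻¹ = z at hz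
  have k0 : ∀ v, _root_.Cfsg.Agent.BZ.Cl.mt ρ h z *ᵥ (_root_.Cfsg.Agent.BZ.Cl.mt ρ h y *ᵥ (_root_.Cfsg.Agent.BZ.Cl.mt ρ h g *ᵥ v)) = _root_.Cfsg.Agent.BZ.Cl.mt ρ h g *ᵥ (_root_.Cfsg.Agent.BZ.Cl.mt ρ h y *ᵥ v) := fun v => by
    simp only [mulVec_mulVec, ← map_mul]
    rw [← hz']
    congr 2
    group
  have k1 : ∀ {ω v}, v ∈ Sp w ω → _root_.Cfsg.Agent.BZ.Cl.mt ρ h y *ᵥ v = (f ω : k) • v := fun hv => hy ▸ sp_dg hv fun ω => (f ω : k)
  have v0 := single_mem (w := w) j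
  have n0 : (Pi.single j 1 : I → k) ≠ 0 := fun e => by simpa using congrFun e j
  have v1 := hw.sp g v0
  have v2 := hw.sp g v1
  have k2 := k0 (Pi.single j 1)
  have k3 := k0 (_root_.Cfsg.Agent.BZ.Cl.mt ρ h g *ᵥ Pi.single j 1)
  rw [k1 v1, k1 v0, h4 _ h1, Units.val_one, one_smul, mulVec_smul] at k2
  rw [k1 v2, k1 v1, h4 _ h1, h4 _ h2, Units.val_one, one_smul, one_smul, mulVec_mulVec, ← map_mul, ← mem_center_iff.1 hz, map_mul,
    ← mulVec_mulVec, k2, mulVec_smul] at k3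
  exact h3 (Units.ext (smul_left_injective k (vec_ne _ (vec_ne _ n0)) (k3.trans (one_smul k _).symm)))

variable {m n N : ℕ} {M : Ideal AlgInt} {α : MulAut K}

/-- **the end game** -/
theorem main3 (C : FA Q e ρ) (R : _root_.Cfsg.Agent.BZ.Cl.Pr 2 Q 3 r 1 (Fintype.card I)) (h3 : (3 : ℤ) ∣ e - 1) (hM : IsPModular 3 M) (F : Fr 3 r m n N K α)
    {B : Set (IrrCharacter K)} {D Z : Subgroup K} (hB : IsPBlock M B) (hBs : StB α B) (hD : IsDefectGroup 3 M B D) (hDs : StS α D)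
    (hZ : Z ≤ center K) (hZp : IsPGroup 3 Z) (hH : HZr 3 Z B) (h81 : Nat.card D ≤ 81) : BK.Ab D := by
  classical
  have : Fact (Nat.Prime 3) := ⟨Nat.prime_three⟩
  have : Fact r.Prime := ⟨R.rp⟩
  obtain ⟨P, b, D', D₁, -, o⟩ := boxMain F hM B D ⊥ ⊥ hB hBs hD hDs bot_le IsPGroup.of_bot (fun g => by simp only [_root_.Subgroup.mem_bot, _root_.EmbeddingLike.map_eq_one_iff]) bot_le
    (fun y _ _ => by simp only [mem_centralizer_iff, _root_.Subgroup.coe_bot, _root_.Set.mem_singleton_iff, _root_.forall_eq, _root_.one_mul, _root_.mul_one]) fun P' _ hP' _ => by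
      obtain ⟨h, w, W⟩ := C.fo.exists_wt R hP' (F.bg.ab' hP')
      exact ⟨Zl 3 P', zl_p, le_cen_zl, fun y hy _ => cen_zl_le C.fo R W hy⟩
  obtain ⟨h, w, W, hf⟩ := C.exists_wt R h3 o.rp (F.bg.ab' o.rp)
  have hZD : Zl 3 P ≤ D' := by
    rintro _ ⟨z, hz, rfl⟩
    exact cen_le_defect hM o.blk o.dfb zs_le zs_p hz
  have h1 : D' ≤ D₁ := o.inf ▸ inf_le_left
  have pg : IsPGroup 3 D₁ := Blocks.Basic.isPGroup_of_isDefectGroup o.dfB
  refine BK.ab_of_defect hM hB o.dfB ?_ hD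
  obtain rfl : D' = D₁ := by
    by_contra e
    obtain ⟨u, k1, k2, k3, k4, v, k5, k6⟩ := o.nrm e
    have k7 : v ∈ centralizer (P : Set K) := cen_zl_le C.fo R W (centralizer_le hZD k5)
    obtain ⟨ζ, hζ⟩ := C.fo.exists_prim R.ppl
    rw [pow_one] at hζ
    have c1 : Nat.card (Set.range w) ≤ 3 := by
      obtain ⟨x, hx⟩ := TID.Red.conj_defect hM hB hD o.dfB
      have c2 := (card_w hζ hf).trans (card_le_of_le hZD)
      have c3 : Nat.card D' < Nat.card D₁ := (card_le_of_le h1).lt_of_ne fun e1 => e (eq_of_le_of_card_ge h1 e1.ge)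
      rw [← hx, card_map_of_injective (MulAut.conj x).injective] at c3
      exact Nat.lt_succ_iff.1 ((Nat.pow_lt_pow_iff_right (a := 3) (by decide)).1 (c2.trans_lt (c3.trans_le h81)))
    have := Fintype.ofFinite (Set.range w)
    let _ := aw W.dg
    let φ := MulAction.toPermHom (normalizer (P : Set K)) (Set.range w)
    have c2 : ∀ g : normalizer (P : Set K), φ g = 1 ↔ (g : K) ∈ centralizer (P : Set K) := fun g =>
      ⟨fun e1 => mem_cen C.fo W R.rc fun i j e2 => (W.dg.ac g e2).trans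
        (congrArg (fun σ : Equiv.Perm (Set.range w) => (σ ⟨_, j, rfl⟩ : P →* kˣ)) e1),
        fun e1 => Equiv.ext fun ω => Subtype.ext (ac_cen e1 _)⟩
    let u' : normalizer (P : Set K) := ⟨u, o.nor k4⟩
    let g : normalizer (P : Set K) := u' * ⟨v, centralizer_le_normalizer _ k7⟩
    have c3 : φ g = φ u' := by rw [map_mul, (c2 ⟨v, _⟩).2 k7, mul_one]
    have c4 : φ g ^ 3 = 1 := by rw [c3, ← map_pow]; exact (c2 _).2 (o.le k3)
    let Δ := ((alternatingGroup (Set.range w)).comap φ).map (normalizer (P : Set K)).subtype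
    have c5 : Δ ≤ normalizer (P : Set K) := map_subtype_le _
    have c6 := boxCor.ol (Δ := Δ) hM o hZ hH zl_p (fun z hz => let ⟨b, hb⟩ := hZp ⟨z, hz⟩
        mem_zl W.ab (fun g _ => mem_center_iff.1 (hZ hz) g) (congrArg Subtype.val hb)) zl_le le_cen_zl nor_zl c5
      (by
        rw [← normal_subgroupOf_iff_le_normalizer c5, subgroupOf, comap_map_eq_self_of_injective (subtype_injective _)]
        infer_instance)
      (by
        rintro _ ⟨x, hx, rfl⟩ _ ⟨y, hy, rfl⟩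
        refine le_cen_zl ((c2 (x * y * x⁻¹ * y⁻¹)).1 ?_)
        have := congrArg Subtype.val ((alternatingGroup.isMulCommutative_of_card_le_three c1).is_comm.comm ⟨φ x, hx⟩ ⟨φ y, hy⟩)
        rw [map_mul, map_mul, map_mul, map_inv, map_inv, show φ x * φ y = φ y * φ x from this, mul_inv_cancel_right, mul_inv_cancel])
      g ⟨g, by
        have := congrArg Equiv.Perm.sign c4
        rw [map_pow, map_one, pow_succ, Int.units_sq, one_mul] at this
        exact this, rfl⟩ k6 ⟨1, le_cen_zl ((c2 (g ^ 3)).1 ((map_pow φ g 3).trans c4))⟩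
    obtain ⟨⟨_, j, rfl⟩, hj⟩ : ∃ ω, φ g ω ≠ ω := by
      by_contra! e1
      exact k2 ((c2 u').1 (c3 ▸ Equiv.ext e1))
    obtain ⟨y, e1, e2⟩ := hf (fun ω => if ω = w j then ζ else 1) fun ω => by
      split_ifs
      · rw [← hζ, pow_orderOf_eq_one]
      · exact one_pow 3
    refine not_cen (f := fun ω => if ω = w j then ζ else 1) W.dg (fun e3 => hj (Subtype.ext e3)) (fun e3 => hj ?_) e2
      (by rw [if_pos rfl]; exact fun e3 => by simp [e3] at hζ) (fun ω e3 => if_neg e3) (hZ (c6 y e1))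
    have e4 := DFunLike.congr_fun c4 ⟨_, j, rfl⟩
    rwa [pow_succ', pow_two, Equiv.Perm.mul_apply, Equiv.Perm.mul_apply,
      show φ g (φ g ⟨_, j, rfl⟩) = ⟨_, j, rfl⟩ from Subtype.ext e3] at e4
  refine ab_of_sc C.inj W.dg o.le pg fun x hx j μ hμ v hv k1 k2 u hu => ?_
  obtain ⟨b', hb'⟩ := pg ⟨x, hx⟩
  obtain ⟨y, ξ, k3, k4, k5⟩ := C.exists_y (h := h) R h3 (congrArg Subtype.val hb') hμ
  have k6 := o.mx (zpowers x) (zpowers_le.2 hx) y (fun z hz => k4 z (o.le hx z hz))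
    (((Nat.dvd_prime_pow R.rp (m := 1)).1 (orderOf_dvd_of_pow_eq_one (by rw [pow_one, k3]))).imp fun _ e => e.2)
    (by
      rintro _ ⟨j, rfl⟩
      exact k4 _ ((Commute.refl x).zpow_left j))
    fun c _ hc _ => (k4 c (hc _ (mem_zpowers _)).symm).symm
  have k7 := W.dg ⟨y, k6⟩
  rw [coe_subtype] at k7
  have k8 := (k5 v).1 k2
  rw [k7, sp_dg hv fun ω => (ω ⟨y, k6⟩ : k)] at k8
  rw [k5, k7, sp_dg hu fun ω => (ω ⟨y, k6⟩ : k), smul_left_injective k k1 k8]

end Cfsg.Agent.BH.RO.Gl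
end
end
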